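import Groth.Agent.ProjMorph.Chart
import Groth.Agent.ZetaLib.ProjPoints
import Groth.Prelude.Def_CohB1

/-!
# The chart `X₀ ≠ 0` of projective space over a ring: section and the case of `P^0`
-/

set_option autoImplicit false
universe u

open CategoryTheory CategoryTheory.Limits AlgebraicGeometry HomogeneousLocalization MvPolynomial

noncomputable section

namespace Groth.Agent.ProjSpec

variable (n : ℕ) (A : Type u) [CommRing A]

theorem X_mem' (i : Fin (n + 1)) :
    (X i : MvPolynomial (Fin (n + 1)) A) ∈ CohB1.polyGrading n A 1 :=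
  (mem_homogeneousSubmodule 1 _).mpr (isHomogeneous_X A i)

/-- The constants in the chart. -/
def cst : A →+* Away (CohB1.polyGrading n A) (X 0 : MvPolynomial (Fin (n + 1)) A) :=
  (fromZeroRingHom (CohB1.polyGrading n A) _).comp (algebraMap A (CohB1.polyGrading n A 0))

/-- Evaluation at `(1 : 0 : ⋯ : 0)`. -/
def ev : Away (CohB1.polyGrading n A) (X 0 : MvPolynomial (Fin (n + 1)) A) →+* A :=
  ProjMorph.liftAway (CohB1.polyGrading n A) (MvPolynomial.eval fun i => if i = 0 then (1 : A) else 0)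
    (show IsUnit _ by simp)

theorem ev_comp_cst : (ev n A).comp (cst n A) = RingHom.id A := by
  refine RingHom.ext fun a => ?_
  refine (ProjMorph.liftAway_fromZero (𝒜 := CohB1.polyGrading n A)
    (MvPolynomial.eval fun i => if i = 0 then (1 : A) else 0) (show IsUnit _ by simp) _).trans ?_
  exact eval_C a

theorem cst_surjective : Function.Surjective (cst 0 A) := by
  intro y
  obtain ⟨p, rfl⟩ := ZetaLib.dehom_surjective (CohB1.polyGrading 0 A) (X_mem' 0 A 0) y
  induction p using MvPolynomial.induction_on with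
  | C r =>
    refine ⟨r, ?_⟩
    rw [ZetaLib.dehom_of_mem _ _ ((mem_homogeneousSubmodule 0 _).mpr (isHomogeneous_C _ r))]
    refine val_injective _ ?_
    simp [cst, fromZeroRingHom]
  | add p q hp hq =>
    obtain ⟨a, ha⟩ := hp
    obtain ⟨b, hb⟩ := hq
    exact ⟨a + b, by rw [map_add, map_add, ha, hb]⟩
  | mul_X p i hp =>
    obtain ⟨a, ha⟩ := hp
    refine ⟨a, ?_⟩
    rw [map_mul, Fin.eq_zero i, ha,
      show ZetaLib.dehom (CohB1.polyGrading 0 A) (X_mem' 0 A 0) (X 0) = 1 from ?_, mul_one]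
    rw [ZetaLib.dehom_of_mem _ _ (X_mem' 0 A 0)]
    refine val_injective _ ?_
    simp [Localization.mk_self ⟨X 0, (Submonoid.mem_powers (X 0 : MvPolynomial (Fin 1) A))⟩]

theorem cst_bijective : Function.Bijective (cst 0 A) :=
  ⟨Function.LeftInverse.injective (g := ev 0 A) (RingHom.congr_fun (ev_comp_cst 0 A)), cst_surjective A⟩

/-- The chart morphism, with target written as `Proj`. -/
abbrev ι₀ := Proj.awayι (CohB1.polyGrading n A) (X 0) (X_mem' n A 0) one_pos

theorem ι₀_toSpec :
    ι₀ n A ≫ Proj.toSpecZero (CohB1.polyGrading n A) ≫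
      Spec.map (CommRingCat.ofHom (algebraMap A (CohB1.polyGrading n A 0))) =
        Spec.map (CommRingCat.ofHom (cst n A)) := by
  rw [Proj.awayι_toSpecZero_assoc, ← Spec.map_comp]
  rfl

theorem exists_section : ∃ s : Spec (CommRingCat.of A) ⟶ CohB1.ProjSpace n A,
    s ≫ CohB1.ProjSpace.toSpec n A = 𝟙 _ := by
  refine ⟨Spec.map (CommRingCat.ofHom (ev n A)) ≫ ι₀ n A, ?_⟩
  refine (Category.assoc _ _ _).trans ((congrArg (Spec.map (CommRingCat.ofHom (ev n A)) ≫ ·)
    (ι₀_toSpec n A)).trans ?_)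
  rw [← Spec.map_comp, ← CommRingCat.ofHom_comp, ev_comp_cst]
  exact Spec.map_id _

theorem iSup_X_eq_top : ⨆ i : Fin (n + 1), Proj.basicOpen (CohB1.polyGrading n A) (X i) = ⊤ := by
  refine Proj.iSup_basicOpen_eq_top' (CohB1.polyGrading n A)
    (fun i : Fin (n + 1) => (X i : MvPolynomial (Fin (n + 1)) A)) (fun i => ⟨1, X_mem' n A i⟩) ?_
  refine top_le_iff.mp fun p _ => ?_
  clear * - p
  induction p using MvPolynomial.induction_on with
  | C r => exact Subalgebra.algebraMap_mem _ (⟨C r, (mem_homogeneousSubmodule 0 _).mpr (isHomogeneous_C _ r)⟩ : CohB1.polyGrading n A 0)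
  | add p q hp hq => exact add_mem hp hq
  | mul_X p i hp => exact mul_mem hp (Algebra.subset_adjoin ⟨i, rfl⟩)

theorem isIso_toSpec_zero : IsIso (CohB1.ProjSpace.toSpec 0 A) := by
  have : IsIso (ι₀ 0 A) := by
    refine isIso_of_isOpenImmersion_of_opensRange_eq_top _ ?_
    rw [Proj.opensRange_awayι]
    refine top_le_iff.mp ?_
    rw [← iSup_X_eq_top 0 A]
    exact iSup_le fun i => by rw [Fin.eq_zero i]
  have hbij : IsIso (CommRingCat.ofHom (cst 0 A)) :=
    (ConcreteCategory.isIso_iff_bijective _).2 (cst_bijective A)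
  have h : IsIso (ι₀ 0 A ≫ Proj.toSpecZero (CohB1.polyGrading 0 A) ≫
      Spec.map (CommRingCat.ofHom (algebraMap A (CohB1.polyGrading 0 A 0)))) := by
    rw [ι₀_toSpec]; infer_instance
  exact IsIso.of_isIso_comp_left (ι₀ 0 A) (Proj.toSpecZero (CohB1.polyGrading 0 A) ≫
      Spec.map (CommRingCat.ofHom (algebraMap A (CohB1.polyGrading 0 A 0))))

end Groth.Agent.ProjSpec
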