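import Groth.Prelude.Def_Cone
import Mathlib.AlgebraicGeometry.ProjectiveSpectrum.Basic
import Mathlib.AlgebraicGeometry.Morphisms.Affine

/-!
# The retraction of the pointed affine cone onto `Proj`
-/

set_option autoImplicit false
universe u

open CategoryTheory CategoryTheory.Limits AlgebraicGeometry HomogeneousLocalization

noncomputable section

namespace Groth.Agent.ProjSpec

variable {R A : Type u} [CommRing R] [CommRing A] [Algebra R A] {𝒜 : ℕ → Submodule R A} [GradedAlgebra 𝒜]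

/-- `Spec` of the localization map. -/
abbrev specLoc (f : A) : Spec (CommRingCat.of (Localization.Away f)) ⟶ Spec (CommRingCat.of A) :=
  Spec.map (CommRingCat.ofHom (algebraMap A (Localization.Away f)))

theorem opensRange_specLoc (f : A) : (specLoc f).opensRange = Cone.coneOpen f :=
  TopologicalSpace.Opens.ext (PrimeSpectrum.localization_away_comap_range (Localization.Away f) f)

theorem coneChart_ι {d : ℕ} {f : A} (hf : f ∈ 𝒜 d) (hd : 0 < d) :
    Cone.chart hf hd ≫ (Cone.pointed 𝒜).ι = specLoc f :=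
  IsOpenImmersion.lift_fac _ _ _

instance isOpenImmersion_coneChart {d : ℕ} {f : A} (hf : f ∈ 𝒜 d) (hd : 0 < d) :
    IsOpenImmersion (Cone.chart hf hd) := by
  have : IsOpenImmersion (Cone.chart hf hd ≫ (Cone.pointed 𝒜).ι) := by
    rw [coneChart_ι]; infer_instance
  exact IsOpenImmersion.of_comp _ (Cone.pointed 𝒜).ι

theorem opensRange_coneChart {d : ℕ} {f : A} (hf : f ∈ 𝒜 d) (hd : 0 < d) :
    (Cone.chart hf hd).opensRange = (Cone.pointed 𝒜).ι ⁻¹ᵁ Cone.coneOpen f := by
  have h : (Cone.chart hf hd).opensRange =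
      (Cone.pointed 𝒜).ι ⁻¹ᵁ ((Cone.pointed 𝒜).ι ''ᵁ (Cone.chart hf hd).opensRange) :=
    ((Cone.pointed 𝒜).ι.preimage_image_eq _).symm
  rw [h, ← Scheme.Hom.opensRange_comp]
  congr 1
  refine TopologicalSpace.Opens.ext ?_
  rw [← opensRange_specLoc]
  show Set.range _ = Set.range _
  rw [coneChart_ι]

/-- A point of the pointed cone misses some homogeneous element of positive degree. -/
theorem exists_notMem (x : (Cone.pointed 𝒜 : Scheme.{u})) :
    ∃ (d : ℕ) (f : A), 0 < d ∧ f ∈ 𝒜 d ∧ f ∉ ((Cone.pointed 𝒜).ι x).asIdeal := by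
  by_contra h
  push Not at h
  refine x.2 ((PrimeSpectrum.mem_zeroLocus _ _).2 fun a ha => ?_)
  exact (HomogeneousIdeal.toIdeal_irrelevant_le (𝒜 := 𝒜)).2 (fun d hd b hb => h d b hd hb) ha

/-- The cover of the pointed cone by its charts. -/
def coneCover : (Cone.pointed 𝒜 : Scheme.{u}).OpenCover :=
  Scheme.Cover.mkOfCovers {q : ℕ × A // 0 < q.1 ∧ q.2 ∈ 𝒜 q.1}
    (fun q => Spec (CommRingCat.of (Localization.Away q.1.2)))
    (fun q => Cone.chart q.2.2 q.2.1)
    (fun x => by
      obtain ⟨d, f, hd, hf, hx⟩ := exists_notMem x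
      refine ⟨⟨(d, f), hd, hf⟩, ?_⟩
      have : x ∈ (Cone.chart hf hd).opensRange := by rw [opensRange_coneChart]; exact hx
      exact this)
    (fun q => isOpenImmersion_coneChart q.2.2 q.2.1)

theorem existsUnique_retraction :
    ∃! π : (Cone.pointed 𝒜 : Scheme.{u}) ⟶ Proj 𝒜,
      ∀ (d : ℕ) (f : A) (hd : 0 < d) (hf : f ∈ 𝒜 d),
        Cone.chart hf hd ≫ π =
          Spec.map (CommRingCat.ofHom (algebraMap (Away 𝒜 f) (Localization.Away f))) ≫
            Proj.awayι 𝒜 f hf hd := by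
  let g : ∀ q : {q : ℕ × A // 0 < q.1 ∧ q.2 ∈ 𝒜 q.1},
      Spec (CommRingCat.of (Localization.Away q.1.2)) ⟶ Proj 𝒜 := fun q =>
    Spec.map (CommRingCat.ofHom (algebraMap (Away 𝒜 q.1.2) (Localization.Away q.1.2))) ≫
      Proj.awayι 𝒜 q.1.2 q.2.2 q.2.1
  have key : ∀ a b : {q : ℕ × A // 0 < q.1 ∧ q.2 ∈ 𝒜 q.1},
      pullback.fst (Cone.chart a.2.2 a.2.1) (Cone.chart b.2.2 b.2.1) ≫ g a =
        pullback.snd (Cone.chart a.2.2 a.2.1) (Cone.chart b.2.2 b.2.1) ≫ g b := by
    rintro ⟨⟨d, f⟩, hd, hf⟩ ⟨⟨e, h⟩, he, hh⟩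
    dsimp only [g]
    set P₁ := pullback.fst (Cone.chart hf hd) (Cone.chart hh he)
    set P₂ := pullback.snd (Cone.chart hf hd) (Cone.chart hh he)
    have hcond : P₁ ≫ specLoc f = P₂ ≫ specLoc h := by
      rw [← coneChart_ι hf hd, ← coneChart_ι hh he, ← Category.assoc, ← Category.assoc, pullback.condition]
    have hrange : Set.range (P₁ ≫ specLoc f) ⊆ Set.range (specLoc (f * h)) := by
      rintro _ ⟨y, rfl⟩
      have h1 : (P₁ ≫ specLoc f) y ∈ Cone.coneOpen f := by
        rw [← opensRange_specLoc, Scheme.Hom.comp_apply]; exact ⟨_, rfl⟩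
      have h2 : (P₁ ≫ specLoc f) y ∈ Cone.coneOpen h := by
        rw [hcond, ← opensRange_specLoc, Scheme.Hom.comp_apply]; exact ⟨_, rfl⟩
      have h3 : (P₁ ≫ specLoc f) y ∈ Cone.coneOpen (f * h) :=
        (PrimeSpectrum.basicOpen_mul f h).ge ⟨h1, h2⟩
      rw [← opensRange_specLoc] at h3
      exact h3
    let w := IsOpenImmersion.lift (specLoc (f * h)) (P₁ ≫ specLoc f) hrange
    have hw : w ≫ specLoc (f * h) = P₁ ≫ specLoc f := IsOpenImmersion.lift_fac _ _ _
    have huf : IsUnit (algebraMap A (Localization.Away (f * h)) f) :=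
      isUnit_of_dvd_unit ((algebraMap A _).map_dvd (dvd_mul_right f h))
        (IsLocalization.Away.algebraMap_isUnit (S := Localization.Away (f * h)) (f * h))
    have huh : IsUnit (algebraMap A (Localization.Away (f * h)) h) :=
      isUnit_of_dvd_unit ((algebraMap A _).map_dvd (dvd_mul_left h f))
        (IsLocalization.Away.algebraMap_isUnit (S := Localization.Away (f * h)) (f * h))
    have h1 : P₁ = w ≫ Spec.map (CommRingCat.ofHom (Localization.awayLift (algebraMap A _) f huf)) := by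
      rw [← cancel_mono (specLoc f), Category.assoc, ← hw, ← Spec.map_comp, ← CommRingCat.ofHom_comp,
        Localization.awayLift, IsLocalization.Away.lift_comp]
    have h2 : P₂ = w ≫ Spec.map (CommRingCat.ofHom (Localization.awayLift (algebraMap A _) h huh)) := by
      rw [← cancel_mono (specLoc h), Category.assoc, ← hcond, ← hw, ← Spec.map_comp,
        ← CommRingCat.ofHom_comp, Localization.awayLift, IsLocalization.Away.lift_comp]
    have c1 : (Localization.awayLift (algebraMap A _) f huf).comp (algebraMap (Away 𝒜 f) (Localization.Away f)) =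
        (algebraMap (Away 𝒜 (f * h)) (Localization.Away (f * h))).comp (awayMap 𝒜 hh rfl) :=
      RingHom.ext fun z => (val_awayMap 𝒜 hh rfl z).symm
    have c2 : (Localization.awayLift (algebraMap A _) h huh).comp (algebraMap (Away 𝒜 h) (Localization.Away h)) =
        (algebraMap (Away 𝒜 (f * h)) (Localization.Away (f * h))).comp (awayMap 𝒜 hf (mul_comm f h)) :=
      RingHom.ext fun z => (val_awayMap 𝒜 hf (mul_comm f h) z).symm
    have e1 : Spec.map (CommRingCat.ofHom (Localization.awayLift (algebraMap A _) f huf)) ≫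
        Spec.map (CommRingCat.ofHom (algebraMap (Away 𝒜 f) (Localization.Away f))) ≫ Proj.awayι 𝒜 f hf hd =
          Spec.map (CommRingCat.ofHom (algebraMap (Away 𝒜 (f * h)) (Localization.Away (f * h)))) ≫
            Proj.awayι 𝒜 (f * h) (SetLike.mul_mem_graded hf hh) (hd.trans_le (d.le_add_right e)) := by
      rw [← Spec.map_comp_assoc, ← CommRingCat.ofHom_comp, c1, CommRingCat.ofHom_comp,
        Spec.map_comp_assoc, Proj.SpecMap_awayMap_awayι 𝒜 hf hd hh rfl]
    have e2 : Spec.map (CommRingCat.ofHom (Localization.awayLift (algebraMap A _) h huh)) ≫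
        Spec.map (CommRingCat.ofHom (algebraMap (Away 𝒜 h) (Localization.Away h))) ≫ Proj.awayι 𝒜 h hh he =
          Spec.map (CommRingCat.ofHom (algebraMap (Away 𝒜 (f * h)) (Localization.Away (f * h)))) ≫
            Proj.awayι 𝒜 (f * h) (SetLike.mul_mem_graded hf hh) (hd.trans_le (d.le_add_right e)) := by
      rw [← Spec.map_comp_assoc, ← CommRingCat.ofHom_comp, c2, CommRingCat.ofHom_comp,
        Spec.map_comp_assoc, Proj.SpecMap_awayMap_awayι 𝒜 hh he hf (mul_comm f h)]
      rfl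
    rw [h1, h2, Category.assoc, Category.assoc]
    exact congrArg (w ≫ ·) (e1.trans e2.symm)
  refine ⟨coneCover.glueMorphisms g key, fun d f hd hf => ?_, fun p hp => ?_⟩
  · exact Scheme.Cover.ι_glueMorphisms coneCover g key ⟨(d, f), hd, hf⟩
  · refine coneCover.hom_ext _ _ fun q => ?_
    exact (hp q.1.1 q.1.2 q.2.1 q.2.2).trans
      (Scheme.Cover.ι_glueMorphisms coneCover g key q).symm

variable {π : (Cone.pointed 𝒜 : Scheme.{u}) ⟶ Proj 𝒜}

/-- The hypothesis characterising the retraction. -/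
def IsRetraction (π : (Cone.pointed 𝒜 : Scheme.{u}) ⟶ Proj 𝒜) : Prop :=
  ∀ (d : ℕ) (f : A) (hd : 0 < d) (hf : f ∈ 𝒜 d),
    Cone.chart hf hd ≫ π =
      Spec.map (CommRingCat.ofHom (algebraMap (Away 𝒜 f) (Localization.Away f))) ≫ Proj.awayι 𝒜 f hf hd

theorem retraction_preimage (hπ : IsRetraction π) {d : ℕ} {f : A} (hd : 0 < d) (hf : f ∈ 𝒜 d) :
    π ⁻¹ᵁ Proj.basicOpen 𝒜 f = (Cone.pointed 𝒜).ι ⁻¹ᵁ Cone.coneOpen f := by
  refine TopologicalSpace.Opens.ext (Set.ext fun x => ?_)
  obtain ⟨e, g, he, hg, hx⟩ := exists_notMem x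
  have hx' : x ∈ (Cone.chart hg he).opensRange := by rw [opensRange_coneChart]; exact hx
  obtain ⟨y, rfl⟩ := hx'
  show y ∈ Cone.chart hg he ⁻¹ᵁ π ⁻¹ᵁ Proj.basicOpen 𝒜 f ↔
    y ∈ Cone.chart hg he ⁻¹ᵁ (Cone.pointed 𝒜).ι ⁻¹ᵁ Cone.coneOpen f
  rw [← Scheme.Hom.comp_preimage, ← Scheme.Hom.comp_preimage, hπ e g he hg, coneChart_ι,
    Scheme.Hom.comp_preimage, Proj.awayι_preimage_basicOpen 𝒜 hg he hf hd]
  show Away.isLocalizationElem hg hf ∉ Ideal.comap (algebraMap (Away 𝒜 g) (Localization.Away g)) y.asIdeal ↔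
    f ∉ Ideal.comap (algebraMap A (Localization.Away g)) y.asIdeal
  simp only [Ideal.mem_comap, HomogeneousLocalization.algebraMap_apply, Away.isLocalizationElem,
    Away.val_mk, Localization.mk_eq_mk', IsLocalization.mk'_eq_mul_mk'_one (f ^ e)]
  have hu : IsUnit (IsLocalization.mk' (Localization.Away g) (1 : A)
      (⟨g ^ d, d, rfl⟩ : Submonoid.powers g)) :=
    IsUnit.of_mul_eq_one (algebraMap A _ (g ^ d))
      ((IsLocalization.mk'_spec (Localization.Away g) (1 : A)
        (⟨g ^ d, d, rfl⟩ : Submonoid.powers g)).trans (map_one _))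
  rw [not_iff_not, Ideal.mul_unit_mem_iff_mem _ hu, map_pow]
  exact y.isPrime.pow_mem_iff_mem e he

theorem isAffineHom_retraction (hπ : IsRetraction π) : IsAffineHom π := by
  refine isAffineHom_of_forall_exists_isAffineOpen (f := π) fun x => ?_
  obtain ⟨s, y, hy⟩ := (Proj.affineOpenCover 𝒜).openCover.exists_eq x
  refine ⟨Proj.basicOpen 𝒜 (s.2 : A), ?_, Proj.isAffineOpen_basicOpen 𝒜 _ s.2.2 s.1.2, ?_⟩
  · rw [← Proj.opensRange_awayι 𝒜 (s.2 : A) s.2.2 s.1.2]
    exact ⟨y, hy⟩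
  · rw [retraction_preimage hπ s.1.2 s.2.2, ← opensRange_coneChart s.2.2 s.1.2]
    exact isAffineOpen_opensRange _

theorem retraction_apply (hπ : IsRetraction π) (p : (Cone.pointed 𝒜 : Scheme.{u})) :
    (π p).asHomogeneousIdeal = (((Cone.pointed 𝒜).ι p).asIdeal).homogeneousCore 𝒜 := by
  obtain ⟨e, t, he, ht, htp⟩ := exists_notMem p
  have hpos : ∀ (d : ℕ) (f : A), 0 < d → f ∈ 𝒜 d →
      (f ∈ (π p).asHomogeneousIdeal ↔ f ∈ ((Cone.pointed 𝒜).ι p).asIdeal) := fun d f hd hf =>
    not_iff_not.1 (SetLike.ext_iff.1 (retraction_preimage hπ hd hf) p)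
  have hall : ∀ (d : ℕ) (f : A), f ∈ 𝒜 d →
      (f ∈ (π p).asHomogeneousIdeal ↔ f ∈ ((Cone.pointed 𝒜).ι p).asIdeal) := by
    intro d f hf
    have hft : f * t ∈ 𝒜 (d + e) := SetLike.mul_mem_graded hf ht
    have htq : t ∉ (π p).asHomogeneousIdeal := fun h => htp ((hpos e t he ht).1 h)
    have := hpos _ _ (Nat.add_pos_right d he) hft
    constructor
    · intro h
      exact (((Cone.pointed 𝒜).ι p).isPrime.mem_or_mem (this.1 (Ideal.mul_mem_right t _ h))).resolve_right htp
    · intro h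
      exact ((π p).isPrime.mem_or_mem (this.2 (Ideal.mul_mem_right t _ h))).resolve_right htq
  classical
  refine HomogeneousIdeal.ext (Ideal.ext fun a => ?_)
  constructor
  · intro ha
    rw [← DirectSum.sum_support_decompose 𝒜 a]
    refine Ideal.sum_mem _ fun i _ => Ideal.mem_homogeneousCore_of_homogeneous_of_mem ⟨i, SetLike.coe_mem _⟩ ?_
    exact (hall i _ (SetLike.coe_mem _)).1 ((π p).asHomogeneousIdeal.isHomogeneous i ha)
  · intro ha
    rw [← DirectSum.sum_support_decompose 𝒜 a]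
    refine Ideal.sum_mem _ fun i _ => (hall i _ (SetLike.coe_mem _)).2 ?_
    exact Ideal.toIdeal_homogeneousCore_le 𝒜 _
      ((((Cone.pointed 𝒜).ι p).asIdeal.homogeneousCore 𝒜).isHomogeneous i ha)

theorem retraction_surjective (hπ : IsRetraction π) : Surjective π := by
  constructor
  intro q
  have hq : ((⟨q.asHomogeneousIdeal.toIdeal, q.isPrime⟩ : PrimeSpectrum A) :
      Spec (CommRingCat.of A)) ∈ Cone.pointed 𝒜 := fun h =>
    q.not_irrelevant_le fun a ha => (PrimeSpectrum.mem_zeroLocus _ _).1 h ha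
  refine ⟨⟨_, hq⟩, ProjectiveSpectrum.ext ?_⟩
  refine (retraction_apply hπ _).trans (HomogeneousIdeal.ext ?_)
  exact q.asHomogeneousIdeal.isHomogeneous.toIdeal_homogeneousCore_eq_self

end Groth.Agent.ProjSpec
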