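import Groth.Agent.ProjSpec.Retract
import Groth.Agent.ProjSpec.ConeMap
import Mathlib.Algebra.Polynomial.Laurent
import Mathlib.RingTheory.PolynomialAlgebra
import Mathlib.RingTheory.TensorProduct.MonoidAlgebra
import Mathlib.AlgebraicGeometry.Morphisms.FiniteType

/-!
# Charts and fibres of the retractions of the affine and projective cones
-/

set_option autoImplicit false
universe u

open CategoryTheory CategoryTheory.Limits AlgebraicGeometry HomogeneousLocalization

noncomputable section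

namespace Groth.Agent.ProjSpec

/-- The fibre of a morphism that is `Spec g` over an affine chart, at a point of that chart. -/
theorem fibre_iso_of_chart {E P : Scheme.{u}} (π : E ⟶ P) {A0 B Tκ : CommRingCat.{u}} (g : A0 ⟶ B)
    (c : Spec B ⟶ E) (a : Spec A0 ⟶ P) [IsOpenImmersion c] [IsOpenImmersion a]
    (H : c ≫ π = Spec.map g ≫ a) (H' : π ⁻¹ᵁ a.opensRange = c.opensRange)
    (x : P) (hx : x ∈ a.opensRange) (v : P.residueField x ⟶ Tκ)
    (hv : ∀ θ : A0 ⟶ P.residueField x, ∃ u : B ⟶ Tκ, IsPushout g θ u v) :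
    ∃ e : pullback π (P.fromSpecResidueField x) ≅ Spec Tκ,
      e.hom ≫ Spec.map v = pullback.snd π (P.fromSpecResidueField x) := by
  have hr : Set.range (P.fromSpecResidueField x) ⊆ Set.range a := by
    rintro _ ⟨y, rfl⟩
    rw [Scheme.fromSpecResidueField_apply]
    exact hx
  obtain ⟨θ, hθ⟩ := Spec.map_surjective (IsOpenImmersion.lift a (P.fromSpecResidueField x) hr)
  obtain ⟨u, hu⟩ := hv θ
  have hθ' : Spec.map θ ≫ a = P.fromSpecResidueField x := by rw [hθ, IsOpenImmersion.lift_fac]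
  have h1 : IsPullback c (Spec.map g) π a :=
    (IsOpenImmersion.isPullback (Spec.map g) c a π H H').flip
  have h2 := (isPullback_SpecMap_of_isPushout g θ u v hu).paste_horiz h1
  rw [hθ'] at h2
  exact ⟨h2.isoPullback.symm, h2.isoPullback_inv_snd⟩

variable {R A B : Type u} [CommRing R] [CommRing A] [Algebra R A] {𝒜 : ℕ → Submodule R A} [GradedAlgebra 𝒜]
  [CommRing B] [Algebra R B] {ℬ : ℕ → Submodule R B} [GradedAlgebra ℬ]

section poly

variable [Algebra A B] [IsScalarTower R A B] {φ : 𝒜 →+*ᵍ ℬ} (hφ : ∀ a : A, φ a = algebraMap A B a)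
  {z : B} (hhat : Function.Bijective (Polynomial.aeval (R := A) z)) {f : A} (hf : f ∈ 𝒜 1)

theorem map_comp_dehom :
    (Away.map φ f).comp (ZetaLib.dehom 𝒜 hf) = (ZetaLib.dehom ℬ (φ.2 hf)).comp φ.toRingHom := by
  classical
  refine RingHom.ext fun a => ?_
  rw [← DirectSum.sum_support_decompose 𝒜 a]
  simp only [map_sum, RingHom.comp_apply]
  refine Finset.sum_congr rfl fun i _ => ?_
  rw [ZetaLib.dehom_of_mem 𝒜 hf (SetLike.coe_mem _), Away.map_mk]
  exact (ZetaLib.dehom_of_mem ℬ (φ.2 hf) (φ.2 (SetLike.coe_mem _))).symm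

include hφ hhat hf in
theorem exists_polynomial_equiv :
    ∃ e : Polynomial (Away 𝒜 f) ≃+* Away ℬ (φ f),
      ∀ c, e (Polynomial.C c) = Away.map φ f c := by
  let e₀ : Polynomial A ≃+* B := RingEquiv.ofBijective (Polynomial.aeval z).toRingHom hhat
  have heC : ∀ a, e₀ (Polynomial.C a) = φ a := fun a => (Polynomial.aeval_C z a).trans (hφ a).symm
  have heX : e₀ Polynomial.X = z := Polynomial.aeval_X z
  let Φ : Polynomial (Away 𝒜 f) →+* Away ℬ (φ f) :=
    Polynomial.eval₂RingHom (Away.map φ f) (ZetaLib.dehom ℬ (φ.2 hf) z)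
  let Ψ : B →+* Polynomial (Away 𝒜 f) :=
    (Polynomial.mapRingHom (ZetaLib.dehom 𝒜 hf)).comp e₀.symm.toRingHom
  have hΨφ : ∀ a, Ψ (φ a) = Polynomial.C (ZetaLib.dehom 𝒜 hf a) := fun a => by
    show Polynomial.map _ (e₀.symm (φ a)) = _
    rw [← heC, RingEquiv.symm_apply_apply, Polynomial.map_C]
  have hΨz : Ψ z = Polynomial.X := by
    show Polynomial.map _ (e₀.symm z) = _
    rw [← heX, RingEquiv.symm_apply_apply, Polynomial.map_X]
  have hdf : ZetaLib.dehom 𝒜 hf f = 1 := by
    rw [ZetaLib.dehom_of_mem 𝒜 hf hf]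
    refine val_injective _ ?_
    simp [Localization.mk_self ⟨f, Submonoid.mem_powers f⟩]
  have hΨf : Ψ (φ f) = 1 := by rw [hΨφ, hdf, map_one]
  have hu : IsUnit (Ψ (φ f)) := hΨf ▸ isUnit_one
  let Ψ' : Away ℬ (φ f) →+* Polynomial (Away 𝒜 f) := ProjMorph.liftAway ℬ Ψ hu
  have hΨ' : ∀ b, Ψ' (ZetaLib.dehom ℬ (φ.2 hf) b) = Ψ b := by
    classical
    intro b
    rw [← DirectSum.sum_support_decompose ℬ b]
    simp only [map_sum]
    refine Finset.sum_congr rfl fun i _ => ?_
    have h := ProjMorph.liftAway_mk (𝒜 := ℬ) Ψ hu (φ.2 hf) i (DirectSum.decompose ℬ b i : B) (by simp)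
    rw [hΨf, one_pow, mul_one] at h
    exact (congrArg _ (ZetaLib.dehom_of_mem ℬ (φ.2 hf) (SetLike.coe_mem _))).trans h
  have hΦΨ : ∀ b, Φ (Ψ b) = ZetaLib.dehom ℬ (φ.2 hf) b := by
    intro b
    obtain ⟨q, rfl⟩ := hhat.2 b
    induction q using Polynomial.induction_on' with
    | add p q hp hq => rw [map_add, map_add, map_add, map_add, hp, hq]
    | monomial k a =>
      rw [Polynomial.aeval_monomial, ← hφ, map_mul, map_mul, map_mul, map_pow, map_pow, map_pow, hΨφ, hΨz]
      simp only [Φ, Polynomial.coe_eval₂RingHom, Polynomial.eval₂_C, Polynomial.eval₂_X]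
      exact congrArg (· * _) (RingHom.congr_fun (map_comp_dehom (φ := φ) hf) a)
  have h1 : Ψ'.comp Φ = RingHom.id _ := by
    refine Polynomial.ringHom_ext (fun c => ?_) ?_
    · obtain ⟨a, rfl⟩ := ZetaLib.dehom_surjective 𝒜 hf c
      simp only [RingHom.comp_apply, Φ, Polynomial.coe_eval₂RingHom, Polynomial.eval₂_C, RingHom.id_apply]
      exact (congrArg Ψ' (RingHom.congr_fun (map_comp_dehom (φ := φ) hf) a)).trans ((hΨ' _).trans (hΨφ a))
    · simp only [RingHom.comp_apply, Φ, Polynomial.coe_eval₂RingHom, Polynomial.eval₂_X, RingHom.id_apply]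
      exact (hΨ' _).trans hΨz
  have h2 : Φ.comp Ψ' = RingHom.id _ := by
    refine RingHom.ext fun y => ?_
    obtain ⟨b, rfl⟩ := ZetaLib.dehom_surjective ℬ (φ.2 hf) y
    exact (congrArg Φ (hΨ' b)).trans (hΦΨ b)
  refine ⟨RingEquiv.ofRingHom Φ Ψ' h2 h1, fun c => ?_⟩
  exact Polynomial.eval₂_C _ _

end poly

section laurent

variable {f : A} (hf : f ∈ 𝒜 1)

/-- `a ↦ Σ (aₙ / fⁿ) Tⁿ`. -/
def laurentHom : A →+* LaurentPolynomial (Away 𝒜 f) :=
  (DirectSum.toSemiring
    (fun i => AddMonoidHom.mk' (fun x : 𝒜 i => LaurentPolynomial.C (Away.mk 𝒜 hf i (x : A) (by simp)) *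
        LaurentPolynomial.T (i : ℤ))
      (fun x y => by
        rw [← add_mul, ← map_add]
        congr 2
        apply val_injective
        simp [val_add, Localization.add_mk_self]))
    (by
      rw [AddMonoidHom.mk'_apply, Nat.cast_zero, LaurentPolynomial.T_zero, mul_one, ← map_one LaurentPolynomial.C]
      congr 1
      apply val_injective
      simp [Localization.mk_self])
    (fun {i j} x y => by
      rw [AddMonoidHom.mk'_apply, AddMonoidHom.mk'_apply, AddMonoidHom.mk'_apply, mul_mul_mul_comm,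
        ← map_mul, ← LaurentPolynomial.T_add, Nat.cast_add]
      congr 2
      apply val_injective
      simp [val_mul, Localization.mk_mul, pow_add])).comp
    (DirectSum.decomposeRingEquiv 𝒜).toRingHom

theorem laurentHom_of_mem {i : ℕ} {x : A} (hx : x ∈ 𝒜 i) :
    laurentHom hf x = LaurentPolynomial.C (Away.mk 𝒜 hf i x (by simpa using hx)) * LaurentPolynomial.T (i : ℤ) := by
  simp only [laurentHom, RingHom.comp_apply]
  erw [DirectSum.decompose_of_mem 𝒜 hx]
  rw [DirectSum.toSemiring_of]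
  rfl

include hf in
theorem exists_laurent_equiv :
    ∃ e : LaurentPolynomial (Away 𝒜 f) ≃+* Localization.Away f,
      ∀ c, e (LaurentPolynomial.C c) = algebraMap (Away 𝒜 f) (Localization.Away f) c := by
  have hlf : laurentHom hf f = LaurentPolynomial.T 1 := by
    have h : Away.mk 𝒜 hf 1 f (by simpa using hf) = 1 := by
      refine val_injective _ ?_
      simp [Localization.mk_self ⟨f, Submonoid.mem_powers f⟩]
    rw [laurentHom_of_mem hf hf, h, map_one, one_mul, Nat.cast_one]
  let uf : (Localization.Away f)ˣ :=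
    (IsLocalization.Away.algebraMap_isUnit (S := Localization.Away f) f).unit
  let Φ : LaurentPolynomial (Away 𝒜 f) →+* Localization.Away f :=
    LaurentPolynomial.eval₂ (algebraMap (Away 𝒜 f) (Localization.Away f)) uf
  have hu : IsUnit (laurentHom hf f) := hlf ▸ LaurentPolynomial.isUnit_T 1
  let Ψ : Localization.Away f →+* LaurentPolynomial (Away 𝒜 f) := IsLocalization.Away.lift f hu
  have hΨ : ∀ a, Ψ (algebraMap A _ a) = laurentHom hf a := fun a => IsLocalization.Away.lift_eq _ hu a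
  have key : ∀ (i : ℕ) (a : A) (ha : a ∈ 𝒜 i),
      Φ (laurentHom hf a) = algebraMap A (Localization.Away f) a := by
    intro i a ha
    rw [laurentHom_of_mem hf ha, LaurentPolynomial.eval₂_C_mul_T_n, HomogeneousLocalization.algebraMap_apply,
      Away.val_mk, Localization.mk_eq_mk', show (uf : Localization.Away f) = algebraMap A _ f from rfl,
      ← map_pow]
    exact IsLocalization.mk'_spec (Localization.Away f) a (⟨f ^ i, i, rfl⟩ : Submonoid.powers f)
  have h1 : Φ.comp Ψ = RingHom.id _ := by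
    classical
    refine IsLocalization.ringHom_ext (Submonoid.powers f) (RingHom.ext fun a => ?_)
    rw [RingHom.comp_apply, RingHom.comp_apply, hΨ, RingHom.id_comp]
    conv_lhs => rw [← DirectSum.sum_support_decompose 𝒜 a]
    conv_rhs => rw [← DirectSum.sum_support_decompose 𝒜 a]
    simp only [map_sum]
    exact Finset.sum_congr rfl fun i _ => key i _ (SetLike.coe_mem _)
  have hC : ∀ c, Ψ (algebraMap (Away 𝒜 f) (Localization.Away f) c) = LaurentPolynomial.C c := by
    intro c
    obtain ⟨i, a, ha, rfl⟩ := Away.mk_surjective 𝒜 hf c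
    refine (hu.pow i).mul_right_cancel ?_
    have h : algebraMap (Away 𝒜 f) (Localization.Away f) (Away.mk 𝒜 hf i a ha) *
        algebraMap A (Localization.Away f) (f ^ i) = algebraMap A (Localization.Away f) a := by
      rw [HomogeneousLocalization.algebraMap_apply, Away.val_mk, Localization.mk_eq_mk']
      exact IsLocalization.mk'_spec (Localization.Away f) a (⟨f ^ i, i, rfl⟩ : Submonoid.powers f)
    have h' := congrArg Ψ h
    rw [map_mul, hΨ, hΨ, map_pow, laurentHom_of_mem hf (show a ∈ 𝒜 i by simpa using ha)] at h'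
    rw [h', hlf, LaurentPolynomial.T_pow, mul_one]
  have h2 : Ψ.comp Φ = RingHom.id _ := by
    refine IsLocalization.ringHom_ext (Submonoid.powers (Polynomial.X : Polynomial (Away 𝒜 f))) ?_
    refine Polynomial.ringHom_ext (fun c => ?_) ?_
    · simp only [RingHom.comp_apply, RingHom.id_apply, LaurentPolynomial.algebraMap_eq_toLaurent,
        Polynomial.toLaurent_C, Φ, LaurentPolynomial.eval₂_C]
      exact hC c
    · simp only [RingHom.comp_apply, RingHom.id_apply, LaurentPolynomial.algebraMap_eq_toLaurent,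
        Polynomial.toLaurent_X, Φ, LaurentPolynomial.eval₂_T, zpow_one]
      exact (hΨ f).trans hlf
  refine ⟨RingEquiv.ofRingHom Φ Ψ h1 h2, fun c => ?_⟩
  exact LaurentPolynomial.eval₂_C _ _ c

end laurent

section retractions

variable {E : Scheme.{u}}

attribute [local instance] Polynomial.algebra in
omit [CommRing B] in
theorem exists_isPushout_polynomial {A0 C κ : CommRingCat.{u}} (g : A0 ⟶ C)
    (e : Polynomial A0 ≃+* C) (he : ∀ c, e (Polynomial.C c) = g c) (θ : A0 ⟶ κ) :
    ∃ u : C ⟶ CommRingCat.of (Polynomial κ),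
      IsPushout g θ u (CommRingCat.ofHom (algebraMap κ (Polynomial κ))) := by
  algebraize [θ.hom]
  have h := CommRingCat.isPushout_of_isPushout A0 (Polynomial A0) κ (Polynomial κ)
  exact ⟨_, h.of_iso (Iso.refl _) e.toCommRingCatIso (Iso.refl _) (Iso.refl _)
    (by rw [Iso.refl_hom, Category.id_comp]; exact CommRingCat.hom_ext (RingHom.ext he))
    (by rw [Iso.refl_hom, Iso.refl_hom, Category.id_comp]; exact Category.comp_id _)
    (Iso.hom_inv_id_assoc _ _).symm
    (by rw [Iso.refl_hom, Iso.refl_hom, Category.id_comp]; exact Category.comp_id _)⟩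

open scoped AlgebraMonoidAlgebra in
omit [CommRing B] in
theorem exists_isPushout_laurent {A0 C κ : CommRingCat.{u}} (g : A0 ⟶ C)
    (e : LaurentPolynomial A0 ≃+* C) (he : ∀ c, e (LaurentPolynomial.C c) = g c) (θ : A0 ⟶ κ) :
    ∃ u : C ⟶ CommRingCat.of (LaurentPolynomial κ),
      IsPushout g θ u (CommRingCat.ofHom (algebraMap κ (LaurentPolynomial κ))) := by
  algebraize [θ.hom]
  have : IsScalarTower A0 (AddMonoidAlgebra A0 ℤ) (AddMonoidAlgebra κ ℤ) := by
    refine .of_algebraMap_eq fun r => ?_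
    exact (AddMonoidAlgebra.mapRingHom_single (algebraMap A0 κ) (0 : ℤ) r).symm
  have h := CommRingCat.isPushout_of_isPushout A0 (AddMonoidAlgebra A0 ℤ) κ (AddMonoidAlgebra κ ℤ)
  exact ⟨_, h.of_iso (Iso.refl _) e.toCommRingCatIso (Iso.refl _) (Iso.refl _)
    (by rw [Iso.refl_hom, Category.id_comp]; exact CommRingCat.hom_ext (RingHom.ext he))
    (by rw [Iso.refl_hom, Iso.refl_hom, Category.id_comp]; exact Category.comp_id _)
    (Iso.hom_inv_id_assoc _ _).symm
    (by rw [Iso.refl_hom, Iso.refl_hom, Category.id_comp]; exact Category.comp_id _)⟩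

/-- The cover of `Proj` by the standard opens of degree one. -/
def degOneCover (hgen : (HomogeneousIdeal.irrelevant 𝒜).toIdeal = Ideal.span (𝒜 1 : Set A)) :
    (Proj 𝒜).AffineOpenCover :=
  Proj.affineOpenCoverOfIrrelevantLESpan 𝒜 (fun s : 𝒜 1 => (s : A)) (m := fun _ => 1) (fun s => s.2)
    (fun _ => one_pos) (le_of_eq_of_le hgen (Ideal.span_mono fun a ha => ⟨⟨a, ha⟩, rfl⟩))

omit [CommRing B] in
theorem exists_degOne (hgen : (HomogeneousIdeal.irrelevant 𝒜).toIdeal = Ideal.span (𝒜 1 : Set A))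
    (x : Proj 𝒜) : ∃ (f : A) (hf : f ∈ 𝒜 1), x ∈ (Proj.awayι 𝒜 f hf one_pos).opensRange := by
  obtain ⟨s, y, hy⟩ := (degOneCover hgen).openCover.exists_eq x
  exact ⟨(show 𝒜 1 from s), (show 𝒜 1 from s).2, y, hy⟩

omit [CommRing B] in
theorem locallyOfFiniteType_of_charts
    (hgen : (HomogeneousIdeal.irrelevant 𝒜).toIdeal = Ideal.span (𝒜 1 : Set A)) (π : E ⟶ Proj 𝒜)
    (h : ∀ (f : A) (hf : f ∈ 𝒜 1), ∃ (C : CommRingCat.{u}) (g : CommRingCat.of (Away 𝒜 f) ⟶ C)
      (c : Spec C ⟶ E) (_ : IsOpenImmersion c), c ≫ π = Spec.map g ≫ Proj.awayι 𝒜 f hf one_pos ∧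
        π ⁻¹ᵁ (Proj.awayι 𝒜 f hf one_pos).opensRange = c.opensRange ∧ g.hom.FiniteType) :
    LocallyOfFiniteType π := by
  refine (IsZariskiLocalAtTarget.iff_of_openCover (P := @LocallyOfFiniteType)
    (degOneCover hgen).openCover).2 fun s => ?_
  change 𝒜 1 at s
  obtain ⟨C, g, c, hc, H, H', hft⟩ := h (s : A) s.2
  have hp : IsPullback c (Spec.map g) π (Proj.awayι 𝒜 (s : A) s.2 one_pos) :=
    (IsOpenImmersion.isPullback (Spec.map g) c _ π H H').flip
  have : LocallyOfFiniteType (Spec.map g) :=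
    (HasRingHomProperty.Spec_iff (P := @LocallyOfFiniteType)).2 hft
  show LocallyOfFiniteType (pullback.snd π (Proj.awayι 𝒜 (s : A) s.2 one_pos))
  rw [← hp.isoPullback_inv_snd]
  infer_instance

end retractions

end Groth.Agent.ProjSpec
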