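import Groth.Prelude.Def_PCone
import Mathlib.AlgebraicGeometry.ProjectiveSpectrum.Functor
import Mathlib.AlgebraicGeometry.Morphisms.Affine

/-!
# The morphism `G(φ) ⟶ Proj` attached to a graded homomorphism
-/

set_option autoImplicit false
universe u

open CategoryTheory CategoryTheory.Limits AlgebraicGeometry HomogeneousLocalization

noncomputable section

namespace Groth.Agent.ProjSpec

variable {R A B : Type u} [CommRing R] [CommRing A] [Algebra R A] {𝒜 : ℕ → Submodule R A} [GradedAlgebra 𝒜]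
  [CommRing B] [Algebra R B] {ℬ : ℕ → Submodule R B} [GradedAlgebra ℬ] (φ : 𝒜 →+*ᵍ ℬ)

omit [GradedAlgebra 𝒜] in
theorem chart_ι {d : ℕ} {f : A} (hf : f ∈ 𝒜 d) (hd : 0 < d) :
    PCone.chart φ hf hd ≫ (PCone.dom φ).ι = Proj.awayι ℬ (φ f) (φ.2 hf) hd :=
  IsOpenImmersion.lift_fac _ _ _

omit [GradedAlgebra 𝒜] in
instance isOpenImmersion_chart {d : ℕ} {f : A} (hf : f ∈ 𝒜 d) (hd : 0 < d) :
    IsOpenImmersion (PCone.chart φ hf hd) := by
  have : IsOpenImmersion (PCone.chart φ hf hd ≫ (PCone.dom φ).ι) := by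
    rw [chart_ι]; infer_instance
  exact IsOpenImmersion.of_comp _ (PCone.dom φ).ι

omit [GradedAlgebra 𝒜] in
theorem opensRange_chart {d : ℕ} {f : A} (hf : f ∈ 𝒜 d) (hd : 0 < d) :
    (PCone.chart φ hf hd).opensRange = (PCone.dom φ).ι ⁻¹ᵁ Proj.basicOpen ℬ (φ f) := by
  have h : (PCone.chart φ hf hd).opensRange =
      (PCone.dom φ).ι ⁻¹ᵁ ((PCone.dom φ).ι ''ᵁ (PCone.chart φ hf hd).opensRange) :=
    ((PCone.dom φ).ι.preimage_image_eq _).symm
  rw [h, ← Scheme.Hom.opensRange_comp]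
  congr 1
  refine TopologicalSpace.Opens.ext ?_
  rw [← Proj.opensRange_awayι ℬ (φ f) (φ.2 hf) hd]
  show Set.range _ = Set.range _
  rw [chart_ι]

/-- The cover of `G(φ)` by the standard charts. -/
def domCover : (PCone.dom φ : Scheme.{u}).OpenCover :=
  Scheme.Cover.mkOfCovers {q : ℕ × A // 0 < q.1 ∧ q.2 ∈ 𝒜 q.1}
    (fun q => Spec (CommRingCat.of (Away ℬ (φ q.1.2))))
    (fun q => PCone.chart φ q.2.2 q.2.1)
    (fun x => by
      obtain ⟨⟨f, d, hd, hf⟩, hx⟩ := TopologicalSpace.Opens.mem_iSup.1 x.2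
      refine ⟨⟨(d, f), hd, hf⟩, ?_⟩
      have : x ∈ (PCone.chart φ hf hd).opensRange := by rw [opensRange_chart]; exact hx
      exact this)
    (fun q => isOpenImmersion_chart φ q.2.2 q.2.1)

theorem awayMap_map {d e : ℕ} {f g : A} (hf : f ∈ 𝒜 d) (hg : g ∈ 𝒜 e) :
    (awayMap ℬ (φ.2 hg) (map_mul φ f g)).comp (Away.map φ f) =
      (Away.map φ (f * g)).comp (awayMap 𝒜 hg rfl) := by
  refine RingHom.ext fun z => ?_
  obtain ⟨n, a, ha, rfl⟩ := Away.mk_surjective 𝒜 hf z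
  refine val_injective _ ?_
  simp only [RingHom.comp_apply, Away.map_mk, awayMap_mk, Away.val_mk, map_mul, map_pow]
  rfl

theorem existsUnique_map :
    ∃! p : (PCone.dom φ : Scheme.{u}) ⟶ Proj 𝒜,
      ∀ (d : ℕ) (f : A) (hd : 0 < d) (hf : f ∈ 𝒜 d),
        PCone.chart φ hf hd ≫ p =
          Spec.map (CommRingCat.ofHom (Away.map φ f)) ≫ Proj.awayι 𝒜 f hf hd := by
  let g : ∀ q : {q : ℕ × A // 0 < q.1 ∧ q.2 ∈ 𝒜 q.1},
      Spec (CommRingCat.of (Away ℬ (φ q.1.2))) ⟶ Proj 𝒜 := fun q =>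
    Spec.map (CommRingCat.ofHom (Away.map φ q.1.2)) ≫ Proj.awayι 𝒜 q.1.2 q.2.2 q.2.1
  have key : ∀ a b : {q : ℕ × A // 0 < q.1 ∧ q.2 ∈ 𝒜 q.1},
      pullback.fst (PCone.chart φ a.2.2 a.2.1) (PCone.chart φ b.2.2 b.2.1) ≫ g a =
        pullback.snd (PCone.chart φ a.2.2 a.2.1) (PCone.chart φ b.2.2 b.2.1) ≫ g b := by
    rintro ⟨⟨d, f⟩, hd, hf⟩ ⟨⟨e, h⟩, he, hh⟩
    dsimp only [g]
    have hcond : pullback.fst (PCone.chart φ hf hd) (PCone.chart φ hh he) ≫ Proj.awayι ℬ (φ f) (φ.2 hf) hd =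
        pullback.snd (PCone.chart φ hf hd) (PCone.chart φ hh he) ≫ Proj.awayι ℬ (φ h) (φ.2 hh) he := by
      rw [← chart_ι φ hf hd, ← chart_ι φ hh he, ← Category.assoc, ← Category.assoc, pullback.condition]
    have hx : φ (f * h) = φ f * φ h := map_mul φ f h
    let w := pullback.lift _ _ hcond ≫ (Proj.pullbackAwayιIso ℬ (φ.2 hf) hd (φ.2 hh) he hx).hom
    have h1 : pullback.fst (PCone.chart φ hf hd) (PCone.chart φ hh he) =
        w ≫ Spec.map (CommRingCat.ofHom (awayMap ℬ (φ.2 hh) hx)) := by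
      simp only [w, Category.assoc, Proj.pullbackAwayιIso_hom_SpecMap_awayMap_left]
      exact (pullback.lift_fst _ _ _).symm
    have h2 : pullback.snd (PCone.chart φ hf hd) (PCone.chart φ hh he) =
        w ≫ Spec.map (CommRingCat.ofHom (awayMap ℬ (φ.2 hf) (hx.trans (mul_comm _ _)))) := by
      simp only [w, Category.assoc, Proj.pullbackAwayιIso_hom_SpecMap_awayMap_right]
      exact (pullback.lift_snd _ _ _).symm
    have e1 : Spec.map (CommRingCat.ofHom (awayMap ℬ (φ.2 hh) hx)) ≫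
        Spec.map (CommRingCat.ofHom (Away.map φ f)) ≫ Proj.awayι 𝒜 f hf hd =
          Spec.map (CommRingCat.ofHom (Away.map φ (f * h))) ≫
            Proj.awayι 𝒜 (f * h) (SetLike.mul_mem_graded hf hh) (hd.trans_le (d.le_add_right e)) := by
      rw [← Spec.map_comp_assoc, ← CommRingCat.ofHom_comp, awayMap_map φ hf hh, CommRingCat.ofHom_comp,
        Spec.map_comp_assoc, Proj.SpecMap_awayMap_awayι 𝒜 hf hd hh rfl]
    have e2 : Spec.map (CommRingCat.ofHom (awayMap ℬ (φ.2 hf) (hx.trans (mul_comm _ _)))) ≫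
        Spec.map (CommRingCat.ofHom (Away.map φ h)) ≫ Proj.awayι 𝒜 h hh he =
          Spec.map (CommRingCat.ofHom (Away.map φ (f * h))) ≫
            Proj.awayι 𝒜 (f * h) (SetLike.mul_mem_graded hf hh) (hd.trans_le (d.le_add_right e)) := by
      have hc : (awayMap ℬ (φ.2 hf) (hx.trans (mul_comm _ _))).comp (Away.map φ h) =
          (Away.map φ (f * h)).comp (awayMap 𝒜 hf (mul_comm f h)) := by
        refine RingHom.ext fun z => ?_
        obtain ⟨n, a, ha, rfl⟩ := Away.mk_surjective 𝒜 hh z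
        refine val_injective _ ?_
        simp only [RingHom.comp_apply, Away.map_mk, awayMap_mk, Away.val_mk, map_mul, map_pow]
        rfl
      rw [← Spec.map_comp_assoc, ← CommRingCat.ofHom_comp, hc, CommRingCat.ofHom_comp,
        Spec.map_comp_assoc, Proj.SpecMap_awayMap_awayι 𝒜 hh he hf (mul_comm f h)]
      rfl
    rw [h1, h2, Category.assoc, Category.assoc]
    exact congrArg (w ≫ ·) (e1.trans e2.symm)
  refine ⟨(domCover φ).glueMorphisms g key, fun d f hd hf => ?_, fun p hp => ?_⟩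
  · exact Scheme.Cover.ι_glueMorphisms (domCover φ) g key ⟨(d, f), hd, hf⟩
  · refine (domCover φ).hom_ext _ _ fun q => ?_
    exact (hp q.1.1 q.1.2 q.2.1 q.2.2).trans
      (Scheme.Cover.ι_glueMorphisms (domCover φ) g key q).symm

theorem map_preimage (p : (PCone.dom φ : Scheme.{u}) ⟶ Proj 𝒜)
    (hp : ∀ (d : ℕ) (f : A) (hd : 0 < d) (hf : f ∈ 𝒜 d),
      PCone.chart φ hf hd ≫ p = Spec.map (CommRingCat.ofHom (Away.map φ f)) ≫ Proj.awayι 𝒜 f hf hd)
    {d : ℕ} {f : A} (hd : 0 < d) (hf : f ∈ 𝒜 d) :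
    p ⁻¹ᵁ Proj.basicOpen 𝒜 f = (PCone.chart φ hf hd).opensRange := by
  rw [opensRange_chart]
  refine TopologicalSpace.Opens.ext (Set.ext fun x => ?_)
  obtain ⟨⟨g, e, he, hg⟩, hx⟩ := TopologicalSpace.Opens.mem_iSup.1 x.2
  have hx' : x ∈ (PCone.chart φ hg he).opensRange := by rw [opensRange_chart]; exact hx
  obtain ⟨y, rfl⟩ := hx'
  show y ∈ PCone.chart φ hg he ⁻¹ᵁ p ⁻¹ᵁ Proj.basicOpen 𝒜 f ↔
    y ∈ PCone.chart φ hg he ⁻¹ᵁ (PCone.dom φ).ι ⁻¹ᵁ Proj.basicOpen ℬ (φ f)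
  rw [← Scheme.Hom.comp_preimage, ← Scheme.Hom.comp_preimage, hp e g he hg, chart_ι,
    Scheme.Hom.comp_preimage, Proj.awayι_preimage_basicOpen 𝒜 hg he hf hd]
  have h : Away.map φ g (Away.isLocalizationElem hg hf) = Away.isLocalizationElem (φ.2 hg) (φ.2 hf) := by
    refine val_injective _ ?_
    simp [Away.isLocalizationElem]
  refine Iff.trans ?_ (SetLike.ext_iff.1
    (Proj.awayι_preimage_basicOpen ℬ (φ.2 hg) he (φ.2 hf) hd) y).symm
  show Away.isLocalizationElem hg hf ∉ Ideal.comap (Away.map φ g) y.asIdeal ↔ _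
  rw [Ideal.mem_comap, h]
  rfl

theorem isAffineHom_map (p : (PCone.dom φ : Scheme.{u}) ⟶ Proj 𝒜)
    (hp : ∀ (d : ℕ) (f : A) (hd : 0 < d) (hf : f ∈ 𝒜 d),
      PCone.chart φ hf hd ≫ p = Spec.map (CommRingCat.ofHom (Away.map φ f)) ≫ Proj.awayι 𝒜 f hf hd) :
    IsAffineHom p := by
  refine isAffineHom_of_forall_exists_isAffineOpen (f := p) fun x => ?_
  obtain ⟨s, y, hy⟩ := (Proj.affineOpenCover 𝒜).openCover.exists_eq x
  refine ⟨Proj.basicOpen 𝒜 (s.2 : A), ?_, Proj.isAffineOpen_basicOpen 𝒜 _ s.2.2 s.1.2, ?_⟩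
  · rw [← Proj.opensRange_awayι 𝒜 (s.2 : A) s.2.2 s.1.2]
    exact ⟨y, hy⟩
  · rw [map_preimage φ p hp s.1.2 s.2.2]
    exact isAffineOpen_opensRange _

end Groth.Agent.ProjSpec
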