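import Groth.Agent.ProjSpec.DomMap
import Groth.Agent.RelProjLib.ProjMap

/-!
# Graded homomorphisms bijective in high degrees
-/

set_option autoImplicit false
universe u

open CategoryTheory CategoryTheory.Limits AlgebraicGeometry HomogeneousLocalization

noncomputable section

namespace Groth.Agent.ProjSpec

variable {R A B : Type u} [CommRing R] [CommRing A] [Algebra R A] {𝒜 : ℕ → Submodule R A} [GradedAlgebra 𝒜]
  [CommRing B] [Algebra R B] {ℬ : ℕ → Submodule R B} [GradedAlgebra ℬ] (φ : 𝒜 →+*ᵍ ℬ)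
  {d₀ : ℕ} (hbij : ∀ d : ℕ, d₀ ≤ d → Set.BijOn φ (𝒜 d) (ℬ d))

include hbij in
theorem away_map_bijective {k : ℕ} (hk : 0 < k) {f : A} (hf : f ∈ 𝒜 k) :
    Function.Bijective (Away.map φ f) := by
  have hle : ∀ n m : ℕ, d₀ ≤ m → d₀ ≤ m • k + n := fun n m hm =>
    hm.trans ((Nat.le_mul_of_pos_right m hk).trans (Nat.le_add_right _ _))
  constructor
  · rw [injective_iff_map_eq_zero]
    intro z hz
    obtain ⟨n, a, ha, rfl⟩ := Away.mk_surjective 𝒜 hf z
    have h := congrArg HomogeneousLocalization.val hz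
    rw [Away.map_mk, Away.val_mk, val_zero, ← Localization.mk_zero 1, Localization.mk_eq_mk_iff,
      Localization.r_iff_exists] at h
    obtain ⟨⟨_, m, rfl⟩, hm⟩ := h
    have hm' : φ f ^ m * φ a = 0 := by simpa using hm
    have h0 : f ^ (d₀ + m) * a = 0 := by
      have hmem : f ^ (d₀ + m) * a ∈ 𝒜 ((d₀ + m) • k + n • k) :=
        SetLike.mul_mem_graded (SetLike.pow_mem_graded _ hf) ha
      refine (hbij _ (hle _ _ (Nat.le_add_right _ _))).injOn hmem (zero_mem _) ?_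
      rw [map_mul, map_pow, pow_add, mul_assoc, hm', mul_zero, map_zero]
    apply val_injective
    rw [Away.val_mk, val_zero, ← Localization.mk_zero 1, Localization.mk_eq_mk_iff, Localization.r_iff_exists]
    exact ⟨⟨f ^ (d₀ + m), d₀ + m, rfl⟩, by simpa using h0⟩
  · intro y
    obtain ⟨n, x, hx, rfl⟩ := Away.mk_surjective ℬ (φ.2 hf) y
    have hmem : φ f ^ d₀ * x ∈ ℬ (d₀ • k + n • k) :=
      SetLike.mul_mem_graded (SetLike.pow_mem_graded _ (φ.2 hf)) hx
    obtain ⟨a, ha, hax⟩ := (hbij _ (hle _ _ le_rfl)).surjOn hmem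
    refine ⟨Away.mk 𝒜 hf (d₀ + n) a (by rw [add_smul]; exact ha), ?_⟩
    rw [Away.map_mk]
    apply val_injective
    rw [Away.val_mk, Away.val_mk, Localization.mk_eq_mk_iff, Localization.r_iff_exists]
    refine ⟨1, ?_⟩
    simp [hax, pow_add]
    ring

include hbij in
theorem dom_eq_top : PCone.dom φ = ⊤ := by
  refine top_le_iff.1 fun y _ => ?_
  obtain ⟨k, hk, t, ht, hty⟩ : ∃ k, 0 < k ∧ ∃ t ∈ ℬ k, t ∉ y.asHomogeneousIdeal := by
    by_contra hne
    push Not at hne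
    exact y.not_irrelevant_le ((HomogeneousIdeal.irrelevant_le _).2 fun k hk t ht => hne k hk t ht)
  have hd : d₀ ≤ (d₀ + 1) • k := (Nat.le_succ d₀).trans (Nat.le_mul_of_pos_right _ hk)
  obtain ⟨a, ha, hat⟩ := (hbij _ hd).surjOn (SetLike.pow_mem_graded (d₀ + 1) ht)
  exact TopologicalSpace.Opens.mem_iSup.2 ⟨⟨a, _, Nat.mul_pos (Nat.succ_pos d₀) hk, ha⟩,
    fun h => hty (y.isPrime.mem_of_pow_mem _ (hat ▸ h))⟩

include hbij in
theorem isIso_of_bij (p : (PCone.dom φ : Scheme.{u}) ⟶ Proj 𝒜)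
    (hp : ∀ (d : ℕ) (f : A) (hd : 0 < d) (hf : f ∈ 𝒜 d),
      PCone.chart φ hf hd ≫ p = Spec.map (CommRingCat.ofHom (Away.map φ f)) ≫ Proj.awayι 𝒜 f hf hd) :
    IsIso p := by
  show MorphismProperty.isomorphisms Scheme.{u} p
  refine (IsZariskiLocalAtTarget.iff_of_openCover (P := MorphismProperty.isomorphisms Scheme.{u})
    (Proj.affineOpenCover 𝒜).openCover).2 fun s => ?_
  have H' : p ⁻¹ᵁ (Proj.awayι 𝒜 (s.2 : A) s.2.2 s.1.2).opensRange =
      (PCone.chart φ s.2.2 s.1.2).opensRange := by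
    rw [Proj.opensRange_awayι, map_preimage φ p hp s.1.2 s.2.2]; rfl
  have h : IsPullback (PCone.chart φ s.2.2 s.1.2)
      (Spec.map (CommRingCat.ofHom (Away.map φ (s.2 : A)))) p (Proj.awayι 𝒜 (s.2 : A) s.2.2 s.1.2) :=
    (IsOpenImmersion.isPullback _ _ _ p (hp _ _ s.1.2 s.2.2) H').flip
  have : IsIso (CommRingCat.ofHom (Away.map φ (s.2 : A))) :=
    (ConcreteCategory.isIso_iff_bijective _).2 (away_map_bijective φ hbij s.1.2 s.2.2)
  show IsIso (pullback.snd p (Proj.awayι 𝒜 (s.2 : A) s.2.2 s.1.2))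
  rw [← h.isoPullback_inv_snd]
  infer_instance

theorem isIso_map_of_bij (hφ : HomogeneousIdeal.irrelevant ℬ ≤ (HomogeneousIdeal.irrelevant 𝒜).map φ)
    (hbij : ∀ d : ℕ, d₀ ≤ d → Set.BijOn φ (𝒜 d) (ℬ d)) : IsIso (Proj.map φ hφ) :=
  RelProjLib.map_property φ hφ (MorphismProperty.isomorphisms Scheme.{u}) fun i hi a ha => by
    have : IsIso (CommRingCat.ofHom (Away.map φ a)) :=
      (ConcreteCategory.isIso_iff_bijective _).2 (away_map_bijective φ hbij hi ha)
    show IsIso _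
    infer_instance

end Groth.Agent.ProjSpec
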