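import Groth.Agent.ProjSpec.DomMap
import Groth.Agent.ProjMorph.Chart
import Groth.Agent.ZetaLib.ProjPoints

/-!
# The projective cone of a graded ring
-/

set_option autoImplicit false
universe u

open CategoryTheory CategoryTheory.Limits AlgebraicGeometry HomogeneousLocalization

noncomputable section

namespace Groth.Agent.ProjSpec

variable {R A B : Type u} [CommRing R] [CommRing A] [Algebra R A] {𝒜 : ℕ → Submodule R A} [GradedAlgebra 𝒜]
  [CommRing B] [Algebra R B] {ℬ : ℕ → Submodule R B} [GradedAlgebra ℬ] (φ : 𝒜 →+*ᵍ ℬ)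

theorem SpecMap_awayMap_id (χ : 𝒜 →+*ᵍ 𝒜) (h : χ = .id 𝒜) {d : ℕ} {f : A} (hf : f ∈ 𝒜 d) (hd : 0 < d) :
    Spec.map (CommRingCat.ofHom (Away.map χ f)) ≫ Proj.awayι 𝒜 f hf hd =
      Proj.awayι 𝒜 (χ f) (χ.2 hf) hd := by
  subst h
  rw [Away.map_id]
  exact (congrArg (· ≫ Proj.awayι 𝒜 f hf hd) (Spec.map_id _)).trans (Category.id_comp _)

theorem exists_section_of_retraction (ψ : ℬ →+*ᵍ 𝒜) (hψφ : ∀ a : A, ψ (φ a) = a)
    (hψ : HomogeneousIdeal.irrelevant 𝒜 ≤ (HomogeneousIdeal.irrelevant ℬ).map ψ)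
    (p : (PCone.dom φ : Scheme.{u}) ⟶ Proj 𝒜)
    (hp : ∀ (d : ℕ) (f : A) (hd : 0 < d) (hf : f ∈ 𝒜 d),
      PCone.chart φ hf hd ≫ p = Spec.map (CommRingCat.ofHom (Away.map φ f)) ≫ Proj.awayι 𝒜 f hf hd) :
    ∃ j : Proj 𝒜 ⟶ (PCone.dom φ : Scheme.{u}), j ≫ (PCone.dom φ).ι = Proj.map ψ hψ ∧ j ≫ p = 𝟙 (Proj 𝒜) := by
  have hrange : Set.range (Proj.map ψ hψ).base ⊆ Set.range (PCone.dom φ).ι.base := by
    rw [Scheme.Opens.range_ι]
    rintro _ ⟨q, rfl⟩
    obtain ⟨k, hk, t, ht, htq⟩ : ∃ k, 0 < k ∧ ∃ t ∈ 𝒜 k, t ∉ q.asHomogeneousIdeal := by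
      by_contra hne
      push Not at hne
      exact q.not_irrelevant_le ((HomogeneousIdeal.irrelevant_le _).2 fun k hk t ht => hne k hk t ht)
    exact TopologicalSpace.Opens.mem_iSup.2 ⟨⟨t, k, hk, ht⟩,
      fun h => htq (by have h' : ψ (φ t) ∈ q.asHomogeneousIdeal := h; rwa [hψφ] at h')⟩
  let j := IsOpenImmersion.lift (PCone.dom φ).ι (Proj.map ψ hψ) hrange
  have hj : j ≫ (PCone.dom φ).ι = Proj.map ψ hψ := IsOpenImmersion.lift_fac _ _ _
  refine ⟨j, hj, ?_⟩
  have hid : ψ.comp φ = .id 𝒜 := DFunLike.ext _ _ hψφ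
  have key : ∀ (d : ℕ) (f x : A) (hd : 0 < d) (hf : f ∈ 𝒜 d) (hx : x ∈ 𝒜 d), x = ψ (φ f) →
      Proj.awayι 𝒜 x hx hd ≫ j ≫ p = Proj.awayι 𝒜 x hx hd := by
    intro d f x hd hf hx hxe
    subst hxe
    have h1 : Proj.awayι 𝒜 (ψ (φ f)) hx hd ≫ j =
        Spec.map (CommRingCat.ofHom (Away.map ψ (φ f))) ≫ PCone.chart φ hf hd := by
      rw [← cancel_mono (PCone.dom φ).ι, Category.assoc, hj, Category.assoc, chart_ι φ hf hd]
      exact Proj.awayι_comp_map ψ hψ hd (φ f) (φ.2 hf)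
    rw [reassoc_of% h1, hp d f hd hf, ← Spec.map_comp_assoc, ← CommRingCat.ofHom_comp, ← Away.map_comp]
    exact SpecMap_awayMap_id (ψ.comp φ) hid hf hd
  refine (Proj.affineOpenCover 𝒜).openCover.hom_ext _ _ fun s => ?_
  rw [Category.comp_id]
  exact key s.1 s.2 s.2 s.1.2 s.2.2 s.2.2 (hψφ _).symm

section cone

variable [Algebra A B] [IsScalarTower R A B] {φ} (hφ : ∀ a : A, φ a = algebraMap A B a)
  {z : B} (hz : z ∈ ℬ 1) (hhat : Function.Bijective (Polynomial.aeval (R := A) z))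

include hφ hhat in
theorem bijective_dehom : Function.Bijective ((ZetaLib.dehom ℬ hz).comp φ.toRingHom) := by
  let e : Polynomial A ≃+* B := RingEquiv.ofBijective (Polynomial.aeval z).toRingHom hhat
  let L : B →+* A := (Polynomial.evalRingHom 1).comp e.symm.toRingHom
  have hez : e Polynomial.X = z := Polynomial.aeval_X z
  have heC : ∀ a, e (Polynomial.C a) = φ a := fun a => (Polynomial.aeval_C z a).trans (hφ a).symm
  have hLz : L z = 1 := by
    show (e.symm z).eval 1 = 1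
    rw [← hez, RingEquiv.symm_apply_apply, Polynomial.eval_X]
  have hLφ : ∀ a, L (φ a) = a := fun a => by
    show (e.symm (φ a)).eval 1 = a
    rw [← heC, RingEquiv.symm_apply_apply, Polynomial.eval_C]
  have hu : IsUnit (L z) := hLz ▸ isUnit_one
  constructor
  · refine Function.LeftInverse.injective (g := ProjMorph.liftAway ℬ L hu) fun a => ?_
    classical
    conv_lhs => rw [← DirectSum.sum_support_decompose 𝒜 a]
    conv_rhs => rw [← DirectSum.sum_support_decompose 𝒜 a]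
    simp only [map_sum]
    refine Finset.sum_congr rfl fun i _ => ?_
    have h := ProjMorph.liftAway_mk (𝒜 := ℬ) L hu hz i (φ (DirectSum.decompose 𝒜 a i : A))
      (by simpa using φ.2 (SetLike.coe_mem _))
    rw [hLz, one_pow, mul_one, hLφ] at h
    refine (congrArg _ ?_).trans h
    exact ZetaLib.dehom_of_mem ℬ hz (φ.2 (SetLike.coe_mem _))
  · intro y
    obtain ⟨b, rfl⟩ := ZetaLib.dehom_surjective ℬ hz y
    obtain ⟨q, rfl⟩ := hhat.2 b
    refine ⟨q.eval 1, ?_⟩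
    have hdz : ZetaLib.dehom ℬ hz z = 1 := by
      rw [ZetaLib.dehom_of_mem ℬ hz hz]
      refine val_injective _ ?_
      simp [Localization.mk_self ⟨z, Submonoid.mem_powers z⟩]
    induction q using Polynomial.induction_on' with
    | add p q hp hq => rw [Polynomial.eval_add, map_add, map_add, map_add, hp, hq]
    | monomial k a =>
      rw [Polynomial.eval_monomial, one_pow, mul_one, Polynomial.aeval_monomial, map_mul, map_pow, hdz,
        one_pow, mul_one, ← hφ]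
      rfl

include hφ hz hhat in
theorem exists_ringEquiv_away :
    ∃ θ : A ≃+* Away ℬ z, ∀ (n : ℕ) (a : A), a ∈ 𝒜 n →
      (θ a).val = Localization.mk (φ a) ⟨z ^ n, pow_mem (Submonoid.mem_powers z) n⟩ := by
  refine ⟨RingEquiv.ofBijective _ (bijective_dehom hφ hz hhat), fun n a ha => ?_⟩
  show (ZetaLib.dehom ℬ hz (φ a)).val = _
  exact (congrArg _ (ZetaLib.dehom_of_mem ℬ hz (φ.2 ha))).trans (Away.val_mk _ _ _ _ _)

end cone

end Groth.Agent.ProjSpec
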