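import Groth.Agent.ProjSpec.Veronese
import Groth.Agent.ProjMorph.Chart
import Groth.Agent.ProjTilde.Comap
import Groth.Agent.ProjTilde.Frac
import Groth.Agent.ProjTwist.Ratio
import Groth.Agent.ProjTilde.QC

/-!
# Graded modules over a Veronese subring
-/

set_option autoImplicit false
set_option linter.style.haveILetI false
universe u

open CategoryTheory AlgebraicGeometry TopologicalSpace Opposite HomogeneousLocalization

noncomputable section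

namespace Groth.Agent.ProjSpec

open Groth.Agent.ProjTwist Groth.Agent.QCoh

variable {R A B : Type u} [CommRing R] [CommRing A] [Algebra R A] {𝒜 : ℕ → Submodule R A} [GradedAlgebra 𝒜]
  [CommRing B] [Algebra R B] {ℬ : ℕ → Submodule R B} [GradedAlgebra ℬ]
  {d : ℕ} {φ : B →ₐ[R] A} (hdeg : ∀ n : ℕ, Submodule.map φ.toLinearMap (ℬ n) = 𝒜 (n * d))
  (hd : 0 < d) {r : Proj 𝒜 ⟶ Proj ℬ}
  (hr : ∀ (n : ℕ) (g : B) (hn : 0 < n) (hg : g ∈ ℬ n),
    Proj.awayι 𝒜 (φ g) (ver_mem hdeg hg) (Nat.mul_pos hn hd) ≫ r =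
      Spec.map (CommRingCat.ofHom (verAway hdeg hg)) ≫ Proj.awayι ℬ g hg hn)

include hd hr in
theorem ver_nin {y : Proj 𝒜} {t : B} (ht : t ∉ (r y).asHomogeneousIdeal) : φ t ∉ y.asHomogeneousIdeal :=
  fun h => ht (show t ∈ (r y).asHomogeneousIdeal.toIdeal from verMap_apply hdeg hd hr y ▸ h)

include hd hr in
theorem ver_mem_of {y : Proj 𝒜} {t : B} (ht : φ t ∉ y.asHomogeneousIdeal) : t ∉ (r y).asHomogeneousIdeal :=
  fun h => ht (show t ∈ Ideal.comap φ y.asHomogeneousIdeal.toIdeal from verMap_apply hdeg hd hr y ▸ h)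

/-- The comorphism on a chart. -/
theorem verMap_appLE {l : ℕ} {g : B} (hl : 0 < l) (hg : g ∈ ℬ l) (z : Away ℬ g) :
    r.appLE (Proj.basicOpen ℬ g) (Proj.basicOpen 𝒜 (φ g)) (verMap_preimage hdeg hd hr hl hg).ge
      (Proj.awayToSection ℬ g z) = Proj.awayToSection 𝒜 (φ g) (verAway hdeg hg z) := by
  have key : (Proj.basicOpen 𝒜 (φ g)).toSpecΓ ≫ Spec.map (Proj.awayToSection 𝒜 (φ g)) ≫
      Proj.awayι 𝒜 (φ g) (ver_mem hdeg hg) (Nat.mul_pos hl hd) = (Proj.basicOpen 𝒜 (φ g)).ι := by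
    rw [← Category.assoc, show (Proj.basicOpen 𝒜 (φ g)).toSpecΓ ≫ Spec.map (Proj.awayToSection 𝒜 (φ g)) =
      (Proj.basicOpenIsoSpec 𝒜 (φ g) (ver_mem hdeg hg) (Nat.mul_pos hl hd)).hom from rfl, Proj.awayι,
      Iso.hom_inv_id_assoc]
  have e : (Proj.basicOpen 𝒜 (φ g)).ι ≫ r = ProjMorph.awayHom ℬ (Proj.basicOpen 𝒜 (φ g)) hg hl
      ((Proj.awayToSection 𝒜 (φ g)).hom.comp (verAway hdeg hg)) := by
    rw [← key, ProjMorph.awayHom, Category.assoc, Category.assoc, hr l g hl hg, CommRingCat.ofHom_comp,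
      Spec.map_comp, Category.assoc]
    rfl
  exact DFunLike.congr_fun (ProjMorph.appLE_eq_of_ι_comp_eq r _ _ e) z

include hd hr in
theorem valAt_app {W : (Proj ℬ).Opens} (c : Γ(Proj ℬ, W)) (y : Proj 𝒜) (hy : r y ∈ W)
    (b t : B) (ht : t ∉ (r y).asHomogeneousIdeal) (hc : valAt c (r y) hy = Localization.mk b ⟨t, ht⟩) :
    valAt (r.app W c) y hy = Localization.mk (φ b) ⟨φ t, ver_nin hdeg hd hr ht⟩ := by
  classical
  -- a fraction representing `c` near `r y`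
  obtain ⟨V, hV, iV, k, ⟨b', hb'⟩, ⟨t', ht'⟩, hnin, hval⟩ :=
    (show Twist.O (𝒜 := ℬ) (op W) from c).2 ⟨r y, hy⟩
  obtain ⟨l, g, hl, hg, hgy⟩ := exists_ver_notMem hdeg y
  let G := t' * g
  have hG : G ∈ ℬ (k + l) := SetLike.mul_mem_graded ht' hg
  have hGy : φ G ∉ y.asHomogeneousIdeal := by
    rw [map_mul]
    exact fun h => (y.isPrime.mem_or_mem h).elim (ver_nin hdeg hd hr (hnin ⟨r y, hV⟩)) hgy
  let z : Away ℬ G := Away.mk ℬ hG 1 (b' * g) (by rw [one_smul]; exact SetLike.mul_mem_graded hb' hg)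
  let W' : (Proj ℬ).Opens := V ⊓ Proj.basicOpen ℬ G
  have hW' : W' ≤ W := fun x hx => iV.le hx.1
  have hval' : rres hW' c = rres (inf_le_right : W' ≤ _) (Proj.awayToSection ℬ G z) := valAt_ext fun x hx => by
    rw [valAt_res, valAt_res]
    refine (congrArg HomogeneousLocalization.val (hval ⟨x, hx.1⟩)).trans ?_
    refine Eq.trans ?_ (ProjectiveSpectrum.Proj.awayToSection_apply ℬ G z ⟨x, hx.2⟩).symm
    rw [Away.val_mk, Localization.mk_eq_mk', IsLocalization.map_mk', HomogeneousLocalization.val_mk,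
      Localization.mk_eq_mk']
    refine IsLocalization.mk'_eq_iff_eq.2 ?_
    simp only [RingHom.id_apply, pow_one, G]
    congr 1
    ring
  have hyW' : r y ∈ W' := ⟨hV, ver_mem_of hdeg hd hr hGy⟩
  have e1 : valAt (r.app W c) y hy = valAt (rres (r.preimage_mono hW') (r.app W c)) y hyW' := rfl
  have e2 : rres (r.preimage_mono hW') (r.app W c) = r.app W' (rres hW' c) :=
    (congr($(r.naturality (homOfLE hW').op) c)).symm
  have e3 : r.app W' (rres (inf_le_right : W' ≤ _) (Proj.awayToSection ℬ G z)) =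
      rres (r.preimage_mono inf_le_right) (r.app (Proj.basicOpen ℬ G) (Proj.awayToSection ℬ G z)) :=
    congr($(r.naturality (homOfLE (inf_le_right : W' ≤ _)).op) (Proj.awayToSection ℬ G z))
  have hkl : 0 < k + l := by omega
  have e4 : valAt (r.app (Proj.basicOpen ℬ G) (Proj.awayToSection ℬ G z)) y hyW'.2 =
      valAt (Proj.awayToSection 𝒜 (φ G) (verAway hdeg hG z)) y hGy := by
    rw [← verMap_appLE hdeg hd hr hkl hG z]
    rfl
  rw [e1, e2, hval', e3, valAt_res, e4]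
  refine (ProjectiveSpectrum.Proj.awayToSection_apply 𝒜 (φ G) _ ⟨y, hGy⟩).trans ?_
  rw [val_verAway, Away.val_mk, Localization.mk_eq_mk', Localization.awayMap, IsLocalization.Away.map,
    IsLocalization.map_mk']
  erw [IsLocalization.map_mk']
  rw [Localization.mk_eq_mk']
  have hc' : Localization.mk b' (⟨t', hnin ⟨r y, hV⟩⟩ : (r y).asHomogeneousIdeal.toIdeal.primeCompl) =
      Localization.mk b ⟨t, ht⟩ :=
    ((congrArg HomogeneousLocalization.val (hval ⟨r y, hV⟩)).trans (HomogeneousLocalization.val_mk _)).symm.trans hc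
  rw [Localization.mk_eq_mk_iff, Localization.r_iff_exists] at hc'
  obtain ⟨⟨u, hu⟩, hu'⟩ := hc'
  refine (IsLocalization.mk'_eq_iff_eq' (S := Localization.AtPrime y.asHomogeneousIdeal.toIdeal)).2 ?_
  refine (IsLocalization.eq_iff_exists y.asHomogeneousIdeal.toIdeal.primeCompl _).2
    ⟨⟨φ u, ver_nin hdeg hd hr hu⟩, ?_⟩
  simp only [RingHom.id_apply, pow_one, G, AlgHom.toRingHom_eq_coe, RingHom.coe_coe, map_mul]
  have h5 := congrArg φ hu'
  simp only [map_mul] at h5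
  linear_combination φ g * h5

section module

variable {M N : Type u} [AddCommGroup M] [Module R M] [Module A M] [AddCommGroup N] [Module R N] [Module B N]
  {ℳ : ℕ → Submodule R M} [DirectSum.Decomposition ℳ] [SetLike.GradedSMul 𝒜 ℳ]
  {𝒩 : ℕ → Submodule R N} [SetLike.GradedSMul ℬ 𝒩]
  (v : N →ₛₗ[φ.toRingHom] M)

omit [Module R M] [Module R N] in
lemma v_smul (c : B) (m : N) : v (c • m) = φ c • v m := v.map_smulₛₗ c m

omit [Module R M] in
lemma mk_zero' (x : ProjectiveSpectrum 𝒜) {s : A} (hs : s ∉ x.asHomogeneousIdeal) :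
    GrModLib.mk x (0 : M) s hs = 0 := LocalizedModule.zero_mk _

/-- Fractions at a point. -/
def vLoc (y : Proj 𝒜) (q : GrTilde.LocMod ℬ (M := N) (r y)) : GrTilde.LocMod 𝒜 (M := M) y :=
  LocalizedModule.liftOn q
    (fun p => GrModLib.mk y (v p.1) (φ p.2.1) (ver_nin hdeg hd hr p.2.2)) (by
      rintro ⟨m, s⟩ ⟨m', s'⟩ h
      obtain ⟨⟨c, hc⟩, h⟩ := h
      refine GrModLib.mk_eq_mk_iff.mpr ⟨φ c, ver_nin hdeg hd hr hc, ?_⟩
      have h5 := congrArg v h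
      simp only [Submonoid.smul_def, v_smul] at h5
      rw [smul_sub, sub_eq_zero]
      exact h5)

lemma vLoc_mk (y : Proj 𝒜) (m : N) (s : B) (hs : s ∉ (r y).asHomogeneousIdeal) :
    vLoc hdeg hd hr v y (GrModLib.mk (r y) m s hs) = GrModLib.mk y (v m) (φ s) (ver_nin hdeg hd hr hs) :=
  LocalizedModule.liftOn_mk _ _ _

lemma vLoc_add (y : Proj 𝒜) (q q' : GrTilde.LocMod ℬ (M := N) (r y)) :
    vLoc hdeg hd hr v y (q + q') = vLoc hdeg hd hr v y q + vLoc hdeg hd hr v y q' := by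
  induction q, q' using LocalizedModule.induction_on₂ with
  | h m m' s s' =>
    rw [LocalizedModule.mk_add_mk]
    refine (vLoc_mk hdeg hd hr v y _ _ (s * s').2).trans ?_
    erw [vLoc_mk hdeg hd hr v y m s.1 s.2, vLoc_mk hdeg hd hr v y m' s'.1 s'.2, LocalizedModule.mk_add_mk]
    refine GrModLib.mk_eq_mk_iff.mpr ⟨1, GrMod.one_nin y, ?_⟩
    simp only [one_smul, Submonoid.smul_def, map_add, v_smul, Submonoid.coe_mul, map_mul]
    exact sub_self _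

lemma vLoc_zero (y : Proj 𝒜) : vLoc hdeg hd hr v y 0 = 0 := by
  have h := vLoc_add hdeg hd hr v y 0 0
  rw [add_zero] at h
  exact left_eq_add.mp h

variable (hvdeg : ∀ n : ℕ, (𝒩 n : Set N).image v = (ℳ (n * d) : Set M)) (n : ℤ)

include hvdeg in
lemma v_mem {i : ℕ} {m : N} (hm : m ∈ 𝒩 i) : v m ∈ ℳ (i * d) := (hvdeg i).le ⟨m, hm, rfl⟩

include hvdeg in
lemma vLoc_mem (y : Proj 𝒜) {q : GrTilde.LocMod ℬ (M := N) (r y)} (hq : q ∈ GrTilde.tildeAt ℬ 𝒩 n (r y)) :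
    vLoc hdeg hd hr v y q ∈ GrTilde.tildeAt 𝒜 ℳ (n * d) y := by
  obtain ⟨i, j, m, s, hs, hm, hsj, hij, rfl⟩ := ProjTilde.exists_mk_of_mem hq
  rw [vLoc_mk]
  rcases hij with hij | rfl
  · exact Submodule.subset_span ⟨i * d, j * d, ⟨v m, v_mem v hvdeg hm⟩, ⟨φ s, ver_mem hdeg hsj⟩, _,
      by push_cast; rw [hij]; ring, rfl⟩
  · rw [map_zero]
    exact (mk_zero' (M := M) y _).symm ▸ zero_mem _

include hd in
lemma vLoc_injective (hv : Function.Injective v) (hvdeg : ∀ n : ℕ, (𝒩 n : Set N).image v = (ℳ (n * d) : Set M))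
    (y : Proj 𝒜) {q q' : GrTilde.LocMod ℬ (M := N) (r y)}
    (hq : q ∈ GrTilde.tildeAt ℬ 𝒩 n (r y)) (hq' : q' ∈ GrTilde.tildeAt ℬ 𝒩 n (r y))
    (h : vLoc hdeg hd hr v y q = vLoc hdeg hd hr v y q') : q = q' := by
  classical
  obtain ⟨i, j, m, s, hs, hm, -, -, e⟩ := ProjTilde.exists_mk_of_mem (sub_mem hq hq')
  have h0 : vLoc hdeg hd hr v y (q - q') = 0 := by
    have := vLoc_add hdeg hd hr v y (q - q') q'
    rw [sub_add_cancel, h] at this
    exact right_eq_add.mp this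
  rw [e, vLoc_mk, GrModLib.mk_eq_zero_iff] at h0
  obtain ⟨c, hc, hcm⟩ := h0
  obtain ⟨k, hk⟩ : ∃ k, (DirectSum.decompose 𝒜 c k : A) ∉ y.asHomogeneousIdeal := by
    by_contra! hall
    refine hc ?_
    rw [← DirectSum.sum_support_decompose 𝒜 c]
    exact Ideal.sum_mem _ fun k _ ↦ hall k
  have hck := GrModLib.mem_annOf.mp
    ((GrModLib.isHomogeneous_annOf (𝒜 := 𝒜) (v_mem v hvdeg hm)) k (GrModLib.mem_annOf.mpr hcm))
  obtain ⟨b, -, hb⟩ := ver_exists hdeg (n := k) (a := (DirectSum.decompose 𝒜 c k : A) ^ d)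
    (by rw [mul_comm, ← smul_eq_mul]; exact SetLike.pow_mem_graded d (SetLike.coe_mem _))
  have hbm : b • m = 0 := hv (by
    rw [map_zero, v_smul, hb,
      ← Nat.sub_add_cancel hd, pow_succ, mul_smul, hck, smul_zero])
  refine sub_eq_zero.mp (e.trans (GrModLib.mk_eq_zero_iff.mpr ⟨b, ver_mem_of hdeg hd hr ?_, hbm⟩))
  exact fun h => hk (y.isPrime.mem_of_pow_mem d (hb ▸ h))

include hvdeg in
lemma isLocFrac_pull (W : (Proj ℬ).Opens) (s : GrTilde.sect ℬ 𝒩 n (op W)) :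
    (GrTilde.isLocFrac 𝒜 ℳ (n * d)).pred fun y : (r ⁻¹ᵁ W : (Proj 𝒜).Opens) =>
      (⟨vLoc hdeg hd hr v y.1 (s.1 ⟨r y.1, y.2⟩).1, vLoc_mem hdeg hd hr v hvdeg n y.1 (s.1 ⟨r y.1, y.2⟩).2⟩ :
        GrTilde.tildeAt 𝒜 ℳ (n * d) y.1) := by
  rintro ⟨y, hy⟩
  obtain ⟨V, hV, iV, i, j, ⟨m, hm⟩, ⟨t, ht⟩, hnin, hij, hw⟩ := s.2 ⟨r y, hy⟩
  refine ⟨r ⁻¹ᵁ V, hV, homOfLE (r.preimage_mono iV.le), i * d, j * d, ⟨v m, v_mem v hvdeg hm⟩,
    ⟨φ t, ver_mem hdeg ht⟩, fun z => ver_nin hdeg hd hr (hnin ⟨r z.1, z.2⟩), ?_, fun z => ?_⟩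
  · rcases hij with hij | h
    · exact Or.inl (by push_cast; rw [hij]; ring)
    · exact Or.inr (show v m = 0 by rw [show m = 0 from h, map_zero])
  · exact (congrArg (vLoc hdeg hd hr v z.1) (hw ⟨r z.1, z.2⟩)).trans (vLoc_mk hdeg hd hr v z.1 m t _)

/-- Pull back of sections. -/
def pullApp (W : (Proj ℬ).Opens) :
    GrTilde.sect ℬ 𝒩 n (op W) →+ GrTilde.sect 𝒜 ℳ (n * d) (op (r ⁻¹ᵁ W)) where
  toFun s := ⟨fun y => ⟨vLoc hdeg hd hr v y.1 (s.1 ⟨r y.1, y.2⟩).1,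
    vLoc_mem hdeg hd hr v hvdeg n y.1 (s.1 ⟨r y.1, y.2⟩).2⟩, isLocFrac_pull hdeg hd hr v hvdeg n W s⟩
  map_zero' := Subtype.ext (funext fun y => Subtype.ext (vLoc_zero hdeg hd hr v y.1))
  map_add' s s' := Subtype.ext (funext fun y => Subtype.ext (vLoc_add hdeg hd hr v y.1 _ _))

lemma pullApp_smul (W : (Proj ℬ).Opens) (c : Γ(Proj ℬ, W)) (s : GrTilde.sect ℬ 𝒩 n (op W)) :
    pullApp hdeg hd hr v hvdeg n W ((show Twist.O (𝒜 := ℬ) (op W) from c) • s) =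
      (show Twist.O (𝒜 := 𝒜) (op (r ⁻¹ᵁ W)) from r.app W c) • pullApp hdeg hd hr v hvdeg n W s := by
  refine Subtype.ext (funext fun y => Subtype.ext ?_)
  refine (congrArg (vLoc hdeg hd hr v y.1) (GrTilde.coe_smul_val n (r y.1) _ (s.1 ⟨r y.1, y.2⟩))).trans ?_
  refine Eq.trans ?_ (GrTilde.coe_smul_val (n * d) y.1 _ _).symm
  obtain ⟨i, j, m, t, ht, -, -, -, hs⟩ := ProjTilde.exists_mk_of_mem (s.1 ⟨r y.1, y.2⟩).2
  obtain ⟨⟨k, b, t', ht'⟩, hc⟩ := Quotient.mk''_surjective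
    ((show Twist.O (𝒜 := ℬ) (op W) from c).1 ⟨r y.1, y.2⟩)
  have hcv : valAt c (r y.1) y.2 = Localization.mk (b : B) ⟨(t' : B), ht'⟩ := by
    rw [valAt, ← hc]; rfl
  show vLoc hdeg hd hr v y.1 (valAt c (r y.1) y.2 • _) = valAt (r.app W c) y.1 y.2 •
    vLoc hdeg hd hr v y.1 (s.1 ⟨r y.1, y.2⟩).1
  rw [valAt_app hdeg hd hr c y.1 y.2 _ _ ht' hcv, hcv, hs, vLoc_mk]
  erw [LocalizedModule.mk_smul_mk, LocalizedModule.mk_smul_mk]
  refine (vLoc_mk hdeg hd hr v y.1 _ _ (Submonoid.mul_mem _ ht' ht)).trans ?_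
  refine GrModLib.mk_eq_mk_iff.mpr ⟨1, GrMod.one_nin y.1, ?_⟩
  simp only [one_smul, v_smul, map_mul]
  exact sub_self _

/-- The comparison map. -/
def pullHom : GrTilde.tilde ℬ 𝒩 n ⟶ (Scheme.Modules.pushforward r).obj (GrTilde.tilde 𝒜 ℳ (n * d)) :=
  ⟨PresheafOfModules.homMk
    { app := fun U => AddCommGrpCat.ofHom (pullApp hdeg hd hr v hvdeg n U.unop)
      naturality := fun _ _ _ => rfl }
    fun U c s => pullApp_smul hdeg hd hr v hvdeg n U.unop c s⟩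

include hd hr in
theorem inv_apply (hφ : Function.Injective φ) (x : Proj ℬ) : ∃ y : Proj 𝒜, r y = x := by
  haveI := isIso_verMap hdeg hd hr hφ
  exact ⟨inv r x, by rw [← Scheme.Hom.comp_apply, IsIso.inv_hom_id]; rfl⟩

theorem injective_pullApp (hφ : Function.Injective φ) (hv : Function.Injective v) (W : (Proj ℬ).Opens) :
    Function.Injective (pullApp hdeg hd hr v hvdeg n W) := by
  intro s s' h
  refine Subtype.ext (funext fun ⟨x, hx⟩ => Subtype.ext ?_)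
  obtain ⟨y, rfl⟩ := inv_apply hdeg hd hr hφ x
  have h1 : ((pullApp hdeg hd hr v hvdeg n W s).1 ⟨y, hx⟩).1 = ((pullApp hdeg hd hr v hvdeg n W s').1 ⟨y, hx⟩).1 := by
    rw [h]
  exact vLoc_injective hdeg hd hr v n hv hvdeg y (s.1 ⟨r y, hx⟩).2 (s'.1 ⟨r y, hx⟩).2 h1

include hvdeg in
/-- Sections upstairs are locally fractions with denominators from `B`. -/
theorem exists_vfrac (W : (Proj ℬ).Opens) (t : GrTilde.sect 𝒜 ℳ (n * d) (op (r ⁻¹ᵁ W)))
    (y : Proj 𝒜) (hy : r y ∈ W) : ∃ (i j : ℕ) (m : 𝒩 i) (σ : ℬ j) (V : (Proj 𝒜).Opens),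
      y ∈ V ∧ ((i : ℤ) = j + n ∨ (m : N) = 0) ∧ ∀ (z : Proj 𝒜), z ∈ V →
        ∃ (hzW : r z ∈ W) (hσ : (σ : B) ∉ (r z).asHomogeneousIdeal),
          (t.1 ⟨z, hzW⟩).1 = vLoc hdeg hd hr v z (GrModLib.mk (r z) (m : N) (σ : B) hσ) := by
  obtain ⟨V, hV, iV, i, j, ⟨a, ha⟩, ⟨s, hs⟩, hnin, hij, hw⟩ := t.2 ⟨y, hy⟩
  obtain ⟨σ, hσ, hσs⟩ := ver_exists hdeg (n := j) (a := s ^ d)
    (by rw [mul_comm, ← smul_eq_mul]; exact SetLike.pow_mem_graded d hs)
  have hsV : ∀ z : Proj 𝒜, z ∈ V → σ ∉ (r z).asHomogeneousIdeal := fun z hz => ver_mem_of hdeg hd hr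
    (hσs ▸ GrModLib.pow_nin (hnin ⟨z, hz⟩) d)
  rcases hij with hij | h0
  · have hd1 : ((d - 1 : ℕ) : ℤ) = (d : ℤ) - 1 := by rw [Nat.cast_sub hd]; rfl
    have hI : (((d - 1) * j + i : ℕ) : ℤ) = ((j : ℤ) + n) * d := by
      push_cast
      rw [hd1, hij]; ring
    have hnj : 0 ≤ (j : ℤ) + n :=
      nonneg_of_mul_nonneg_left (hI ▸ Int.natCast_nonneg _) (by exact_mod_cast hd)
    have hdd : (d - 1) * j + i = ((j : ℤ) + n).toNat * d := by
      have h2 := hI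
      rw [← Int.toNat_of_nonneg hnj, ← Nat.cast_mul] at h2
      exact_mod_cast h2
    have hm' : s ^ (d - 1) • a ∈ ℳ (((j : ℤ) + n).toNat * d) := by
      rw [← hdd]
      exact SetLike.GradedSMul.smul_mem (by simpa using SetLike.pow_mem_graded (d - 1) hs) ha
    obtain ⟨m, hm, hvm⟩ := (hvdeg _).ge hm'
    refine ⟨_, j, ⟨m, hm⟩, ⟨σ, hσ⟩, V, hV, Or.inl (Int.toNat_of_nonneg hnj), fun z hz =>
      ⟨iV.le hz, hsV z hz, (hw ⟨z, hz⟩).trans ?_⟩⟩
    refine Eq.trans ?_ (vLoc_mk hdeg hd hr v z m σ _).symm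
    refine GrModLib.mk_eq_mk_iff.mpr ⟨1, GrMod.one_nin z, ?_⟩
    rw [one_smul, hσs, hvm, smul_smul, ← pow_succ', Nat.sub_add_cancel hd, sub_self]
  · obtain rfl : a = 0 := h0
    refine ⟨0, j, 0, ⟨σ, hσ⟩, V, hV, Or.inr rfl, fun z hz => ⟨iV.le hz, hsV z hz, (hw ⟨z, hz⟩).trans ?_⟩⟩
    refine Eq.trans ?_ (vLoc_mk hdeg hd hr v z _ σ _).symm
    refine GrModLib.mk_eq_mk_iff.mpr ⟨1, GrMod.one_nin z, ?_⟩
    simp

theorem surjective_pullApp (hφ : Function.Injective φ) (hv : Function.Injective v) (W : (Proj ℬ).Opens) :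
    Function.Surjective (pullApp hdeg hd hr v hvdeg n W) := by
  haveI := isIso_verMap hdeg hd hr hφ
  intro t
  have hri : ∀ x : Proj ℬ, r (inv r x) = x := fun x => by
    rw [← Scheme.Hom.comp_apply, IsIso.inv_hom_id]; rfl
  have hir : ∀ y : Proj 𝒜, inv r (r y) = y := fun y => by
    rw [← Scheme.Hom.comp_apply, IsIso.hom_inv_id]; rfl
  have hW : ∀ x : W, r (inv r x.1) ∈ W := fun x => (hri x.1).symm ▸ x.2
  choose I J m σ V hyV hij hV using fun x : W => exists_vfrac hdeg hd hr v hvdeg n W t (inv r x.1) (hW x)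
  have hσx : ∀ x : W, (σ x : B) ∉ x.1.asHomogeneousIdeal := fun x h => by
    obtain ⟨-, hσ', -⟩ := hV x _ (hyV x)
    exact hσ' ((hri x.1).symm ▸ h)
  have hmem : ∀ (x : W) (z : ProjectiveSpectrum ℬ) (hz : (σ x : B) ∉ z.asHomogeneousIdeal),
      GrModLib.mk z (m x : N) (σ x : B) hz ∈ GrTilde.tildeAt ℬ 𝒩 n z := fun x z hz => by
    rcases hij x with h | h
    · exact Submodule.subset_span ⟨I x, J x, m x, σ x, hz, h, rfl⟩
    · rw [h]; exact (mk_zero' (M := N) (𝒜 := ℬ) z hz).symm ▸ zero_mem _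
  let w : ∀ x : W, GrTilde.tildeAt ℬ 𝒩 n x.1 := fun x => ⟨GrModLib.mk x.1 (m x : N) (σ x : B) (hσx x), hmem x x.1 (hσx x)⟩
  have hval : ∀ (z : Proj 𝒜) (hz : r z ∈ W), vLoc hdeg hd hr v z (w ⟨r z, hz⟩).1 = (t.1 ⟨z, hz⟩).1 := by
    intro z hz
    obtain ⟨_, _, e⟩ := hV ⟨r z, hz⟩ z (by
      have := hyV ⟨r z, hz⟩
      rwa [hir z] at this)
    exact e.symm
  have hloc : (GrTilde.isLocFrac ℬ 𝒩 n).pred w := by
    intro x
    refine ⟨(inv r) ⁻¹ᵁ V x, hyV x, homOfLE (fun z hz => ?_), I x, J x, m x, σ x, fun z => ?_, hij x, fun z => ?_⟩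
    · obtain ⟨h1, -, -⟩ := hV x _ hz
      rwa [hri z] at h1
    · obtain ⟨-, h2, -⟩ := hV x _ z.2
      rwa [hri z.1] at h2
    · obtain ⟨z, hz⟩ := z
      obtain ⟨y, rfl⟩ := inv_apply hdeg hd hr hφ z
      have hyV' : y ∈ V x := by
        have h1 : inv r (r y) ∈ V x := hz
        rwa [hir y] at h1
      obtain ⟨h1, h2, e⟩ := hV x y hyV'
      exact vLoc_injective hdeg hd hr v n hv hvdeg y (w ⟨r y, h1⟩).2 (hmem x _ h2) ((hval y h1).trans e)
  exact ⟨⟨w, hloc⟩, Subtype.ext (funext fun z => Subtype.ext (hval z.1 z.2))⟩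

theorem bijective_pullApp (hφ : Function.Injective φ) (hv : Function.Injective v) (W : (Proj ℬ).Opens) :
    Function.Bijective (pullApp hdeg hd hr v hvdeg n W) :=
  ⟨injective_pullApp hdeg hd hr v hvdeg n hφ hv W, surjective_pullApp hdeg hd hr v hvdeg n hφ hv W⟩

include hd in
/-- **Graded modules over a Veronese subring.** -/
theorem nonempty_tilde_iso (hφ : Function.Injective φ) (e : Proj 𝒜 ≅ Proj ℬ)
    (he : ∀ (n : ℕ) (g : B) (hn : 0 < n) (hg : g ∈ ℬ n)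
      (θ : CommRingCat.of (Away ℬ g) ⟶ CommRingCat.of (Away 𝒜 (φ g))),
      (algebraMap (Away 𝒜 (φ g)) (Localization.Away (φ g))).comp θ.hom =
        (Localization.awayMap φ.toRingHom g).comp (algebraMap (Away ℬ g) (Localization.Away g)) →
      Proj.awayι 𝒜 (φ g) (ver_mem hdeg hg) (Nat.mul_pos hn hd) ≫ e.hom =
        Spec.map θ ≫ Proj.awayι ℬ g hg hn)
    (hv : Function.Injective v) (hvdeg : ∀ n : ℕ, (𝒩 n : Set N).image v = (ℳ (n * d) : Set M)) :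
    Nonempty (GrTilde.tilde 𝒜 ℳ (n * d) ≅ (Scheme.Modules.pullback e.hom).obj (GrTilde.tilde ℬ 𝒩 n)) := by
  have hr' : ∀ (n : ℕ) (g : B) (hn : 0 < n) (hg : g ∈ ℬ n),
      Proj.awayι 𝒜 (φ g) (ver_mem hdeg hg) (Nat.mul_pos hn hd) ≫ e.hom =
        Spec.map (CommRingCat.ofHom (verAway hdeg hg)) ≫ Proj.awayι ℬ g hg hn := fun n g hn hg =>
    he n g hn hg _ (RingHom.ext fun z => val_verAway hdeg hg z)
  haveI := ProjTilde.isIso_adjunct e.hom (pullHom hdeg hd hr' v hvdeg n)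
    fun W _ => bijective_pullApp hdeg hd hr' v hvdeg n hφ hv W
  exact ⟨(asIso (((Scheme.Modules.pullbackPushforwardAdjunction e.hom).homEquiv _ _).symm
    (pullHom hdeg hd hr' v hvdeg n))).symm⟩

end module

end Groth.Agent.ProjSpec

end
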