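import Mathlib.AlgebraicGeometry.ProjectiveSpectrum.Functor
import Mathlib.AlgebraicGeometry.Morphisms.ClosedImmersion
import Mathlib.AlgebraicGeometry.ProjectiveSpectrum.Proper

/-!
# `Proj` of a Veronese subring
-/

set_option autoImplicit false
universe u

open CategoryTheory CategoryTheory.Limits AlgebraicGeometry HomogeneousLocalization

noncomputable section

namespace Groth.Agent.ProjSpec

variable {R A B : Type u} [CommRing R] [CommRing A] [Algebra R A] {𝒜 : ℕ → Submodule R A} [GradedAlgebra 𝒜]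
  [CommRing B] [Algebra R B] {ℬ : ℕ → Submodule R B} [GradedAlgebra ℬ]
  {d : ℕ} {φ : B →ₐ[R] A} (hdeg : ∀ n : ℕ, Submodule.map φ.toLinearMap (ℬ n) = 𝒜 (n * d))

include hdeg

omit [GradedAlgebra 𝒜] [GradedAlgebra ℬ] in
theorem ver_mem {n : ℕ} {g : B} (hg : g ∈ ℬ n) : φ g ∈ 𝒜 (n * d) :=
  (hdeg n).le (Submodule.mem_map_of_mem hg)

omit [GradedAlgebra 𝒜] [GradedAlgebra ℬ] in
theorem ver_exists {n : ℕ} {a : A} (ha : a ∈ 𝒜 (n * d)) : ∃ b ∈ ℬ n, φ b = a :=
  Submodule.mem_map.1 ((hdeg n).ge ha)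

theorem exists_verAway {n : ℕ} {g : B} (hg : g ∈ ℬ n) (z : Away ℬ g) :
    ∃ w : Away 𝒜 (φ g), w.val = Localization.awayMap φ.toRingHom g z.val := by
  obtain ⟨k, x, hx, rfl⟩ := Away.mk_surjective ℬ hg z
  refine ⟨Away.mk 𝒜 (ver_mem hdeg hg) k (φ x) (?_ : φ x ∈ 𝒜 (k • (n * d))), ?_⟩
  · rw [smul_eq_mul, ← mul_assoc]
    exact ver_mem hdeg (by simpa using hx)
  · rw [Away.val_mk, Away.val_mk, Localization.mk_eq_mk', Localization.mk_eq_mk', Localization.awayMap,
      IsLocalization.Away.map, IsLocalization.map_mk']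
    congr 1
    exact Subtype.ext (map_pow φ g k).symm

/-- The comparison of the degree zero localizations. -/
def verAway {n : ℕ} {g : B} (hg : g ∈ ℬ n) : Away ℬ g →+* Away 𝒜 (φ g) where
  toFun z := (exists_verAway hdeg hg z).choose
  map_one' := val_injective _ <| by
    rw [(exists_verAway hdeg hg 1).choose_spec, val_one, map_one, val_one]
  map_zero' := val_injective _ <| by
    rw [(exists_verAway hdeg hg 0).choose_spec, val_zero, map_zero, val_zero]
  map_mul' x y := val_injective _ <| (exists_verAway hdeg hg (x * y)).choose_spec.trans <|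
    (congrArg _ (val_mul x y)).trans <| (map_mul _ _ _).trans <|
    (congrArg₂ (· * ·) (exists_verAway hdeg hg x).choose_spec.symm
      (exists_verAway hdeg hg y).choose_spec.symm).trans (val_mul _ _).symm
  map_add' x y := val_injective _ <| (exists_verAway hdeg hg (x + y)).choose_spec.trans <|
    (congrArg _ (val_add x y)).trans <| (map_add _ _ _).trans <|
    (congrArg₂ (· + ·) (exists_verAway hdeg hg x).choose_spec.symm
      (exists_verAway hdeg hg y).choose_spec.symm).trans (val_add _ _).symm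

theorem val_verAway {n : ℕ} {g : B} (hg : g ∈ ℬ n) (z : Away ℬ g) :
    (verAway hdeg hg z).val = Localization.awayMap φ.toRingHom g z.val :=
  (exists_verAway hdeg hg z).choose_spec

theorem verAway_mk {n : ℕ} {g : B} (hg : g ∈ ℬ n) (k : ℕ) (x : B) (hx : x ∈ ℬ (k • n))
    (hx' : φ x ∈ 𝒜 (k • (n * d))) :
    verAway hdeg hg (Away.mk ℬ hg k x hx) = Away.mk 𝒜 (ver_mem hdeg hg) k (φ x) hx' := by
  refine val_injective _ ?_
  rw [val_verAway, Away.val_mk, Away.val_mk, Localization.mk_eq_mk', Localization.mk_eq_mk',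
    Localization.awayMap, IsLocalization.Away.map, IsLocalization.map_mk']
  congr 1
  exact Subtype.ext (map_pow φ g k)

omit [GradedAlgebra 𝒜] [GradedAlgebra ℬ] in
theorem smul_mem {n k : ℕ} {x : B} (hx : x ∈ ℬ (k • n)) : φ x ∈ 𝒜 (k • (n * d)) := by
  rw [smul_eq_mul, ← mul_assoc]
  exact ver_mem hdeg (by simpa using hx)

theorem verAway_bijective (hφ : Function.Injective φ) {n : ℕ} {g : B} (hg : g ∈ ℬ n) :
    Function.Bijective (verAway hdeg hg) := by
  constructor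
  · rw [injective_iff_map_eq_zero]
    intro z hz
    obtain ⟨k, x, hx, rfl⟩ := Away.mk_surjective ℬ hg z
    rw [verAway_mk hdeg hg k x hx (smul_mem hdeg hx)] at hz
    have h := congrArg HomogeneousLocalization.val hz
    rw [Away.val_mk, val_zero, ← Localization.mk_zero 1, Localization.mk_eq_mk_iff,
      Localization.r_iff_exists] at h
    obtain ⟨⟨_, m, rfl⟩, hm⟩ := h
    have hm' : φ g ^ m * φ x = 0 := by simpa using hm
    rw [← map_pow, ← map_mul, map_eq_zero_iff _ hφ] at hm'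
    apply val_injective
    rw [Away.val_mk, val_zero, ← Localization.mk_zero 1, Localization.mk_eq_mk_iff, Localization.r_iff_exists]
    exact ⟨⟨g ^ m, m, rfl⟩, by simpa using hm'⟩
  · intro w
    obtain ⟨k, a, ha, rfl⟩ := Away.mk_surjective 𝒜 (ver_mem hdeg hg) w
    obtain ⟨b, hb, rfl⟩ := ver_exists hdeg (n := k • n) (a := a) (by rw [smul_eq_mul, mul_assoc]; simpa using ha)
    exact ⟨Away.mk ℬ hg k b hb, verAway_mk hdeg hg k b hb ha⟩

theorem exists_ver_notMem (y : Proj 𝒜) :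
    ∃ (n : ℕ) (g : B), 0 < n ∧ g ∈ ℬ n ∧ φ g ∉ y.asHomogeneousIdeal := by
  obtain ⟨k, hk, t, ht, hty⟩ : ∃ k, 0 < k ∧ ∃ t ∈ 𝒜 k, t ∉ y.asHomogeneousIdeal := by
    by_contra hne
    push Not at hne
    exact y.not_irrelevant_le ((HomogeneousIdeal.irrelevant_le _).2 fun k hk t ht => hne k hk t ht)
  obtain ⟨b, hb, hbt⟩ := ver_exists hdeg (n := k) (a := t ^ d)
    (by rw [mul_comm, ← smul_eq_mul]; exact SetLike.pow_mem_graded d ht)
  exact ⟨k, b, hk, hb, fun h => hty (y.isPrime.mem_of_pow_mem d (hbt ▸ h))⟩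

variable (hd : 0 < d)

/-- The charts of `Proj A` attached to the Veronese subring. -/
def verCover : (Proj 𝒜).OpenCover :=
  Scheme.Cover.mkOfCovers {q : ℕ × B // 0 < q.1 ∧ q.2 ∈ ℬ q.1}
    (fun q => Spec (CommRingCat.of (Away 𝒜 (φ q.1.2))))
    (fun q => Proj.awayι 𝒜 (φ q.1.2) (ver_mem hdeg q.2.2) (Nat.mul_pos q.2.1 hd))
    (fun y => by
      obtain ⟨n, g, hn, hg, hy⟩ := exists_ver_notMem hdeg y
      refine ⟨⟨(n, g), hn, hg⟩, ?_⟩
      have : y ∈ (Proj.awayι 𝒜 (φ g) (ver_mem hdeg hg) (Nat.mul_pos hn hd)).opensRange := by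
        rw [Proj.opensRange_awayι]; exact hy
      exact this)
    (fun q => by infer_instance)

theorem verAway_awayMap {n m : ℕ} {g h x : B} (hg : g ∈ ℬ n) (hh : h ∈ ℬ m) (hxd : x ∈ ℬ (n + m))
    (hx : x = g * h) (hx' : φ x = φ g * φ h) :
    (awayMap 𝒜 (ver_mem hdeg hh) hx').comp (verAway hdeg hg) =
      (verAway hdeg hxd).comp (awayMap ℬ hh hx) := by
  refine RingHom.ext fun z => ?_
  obtain ⟨k, a, ha, rfl⟩ := Away.mk_surjective ℬ hg z
  refine val_injective _ ?_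
  rw [RingHom.comp_apply, RingHom.comp_apply, verAway_mk hdeg hg k a ha (smul_mem hdeg ha)]
  simp only [val_verAway, awayMap_mk, Away.val_mk, Localization.mk_eq_mk', Localization.awayMap,
    IsLocalization.Away.map, IsLocalization.map_mk']
  refine (IsLocalization.mk'_eq_iff_eq (M := Submonoid.powers (φ x))).2 ?_
  simp

include hd in
theorem exists_verMap :
    ∃ r : Proj 𝒜 ⟶ Proj ℬ, ∀ (n : ℕ) (g : B) (hn : 0 < n) (hg : g ∈ ℬ n),
      Proj.awayι 𝒜 (φ g) (ver_mem hdeg hg) (Nat.mul_pos hn hd) ≫ r =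
        Spec.map (CommRingCat.ofHom (verAway hdeg hg)) ≫ Proj.awayι ℬ g hg hn := by
  let γ : ∀ q : {q : ℕ × B // 0 < q.1 ∧ q.2 ∈ ℬ q.1},
      Spec (CommRingCat.of (Away 𝒜 (φ q.1.2))) ⟶ Proj ℬ := fun q =>
    Spec.map (CommRingCat.ofHom (verAway hdeg q.2.2)) ≫ Proj.awayι ℬ q.1.2 q.2.2 q.2.1
  have key : ∀ a b : {q : ℕ × B // 0 < q.1 ∧ q.2 ∈ ℬ q.1},
      pullback.fst (Proj.awayι 𝒜 (φ a.1.2) (ver_mem hdeg a.2.2) (Nat.mul_pos a.2.1 hd))
          (Proj.awayι 𝒜 (φ b.1.2) (ver_mem hdeg b.2.2) (Nat.mul_pos b.2.1 hd)) ≫ γ a =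
        pullback.snd (Proj.awayι 𝒜 (φ a.1.2) (ver_mem hdeg a.2.2) (Nat.mul_pos a.2.1 hd))
          (Proj.awayι 𝒜 (φ b.1.2) (ver_mem hdeg b.2.2) (Nat.mul_pos b.2.1 hd)) ≫ γ b := by
    rintro ⟨⟨n, g⟩, hn, hg⟩ ⟨⟨m, h⟩, hm, hh⟩
    dsimp only [γ]
    have hx : φ (g * h) = φ g * φ h := map_mul φ g h
    have hgh : g * h ∈ ℬ (n + m) := SetLike.mul_mem_graded hg hh
    have hgh' : g * h ∈ ℬ (m + n) := by rw [add_comm]; exact hgh
    let I := Proj.pullbackAwayιIso 𝒜 (ver_mem hdeg hg) (Nat.mul_pos hn hd) (ver_mem hdeg hh)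
      (Nat.mul_pos hm hd) hx
    have e1 : Spec.map (CommRingCat.ofHom (awayMap 𝒜 (ver_mem hdeg hh) hx)) ≫
        Spec.map (CommRingCat.ofHom (verAway hdeg hg)) ≫ Proj.awayι ℬ g hg hn =
          Spec.map (CommRingCat.ofHom (verAway hdeg hgh)) ≫
            Proj.awayι ℬ (g * h) hgh (hn.trans_le (n.le_add_right m)) := by
      rw [← Spec.map_comp_assoc, ← CommRingCat.ofHom_comp, verAway_awayMap hdeg hg hh hgh rfl hx,
        CommRingCat.ofHom_comp, Spec.map_comp_assoc, Proj.SpecMap_awayMap_awayι ℬ hg hn hh rfl]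
    have e2 : Spec.map (CommRingCat.ofHom (awayMap 𝒜 (ver_mem hdeg hg) (hx.trans (mul_comm _ _)))) ≫
        Spec.map (CommRingCat.ofHom (verAway hdeg hh)) ≫ Proj.awayι ℬ h hh hm =
          Spec.map (CommRingCat.ofHom (verAway hdeg hgh)) ≫
            Proj.awayι ℬ (g * h) hgh (hn.trans_le (n.le_add_right m)) := by
      rw [← Spec.map_comp_assoc, ← CommRingCat.ofHom_comp,
        verAway_awayMap hdeg hh hg hgh' (mul_comm g h) (hx.trans (mul_comm _ _)),
        CommRingCat.ofHom_comp, Spec.map_comp_assoc, Proj.SpecMap_awayMap_awayι ℬ hh hm hg (mul_comm g h)]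
      rw [show verAway hdeg hgh' = verAway hdeg hgh from
        RingHom.ext fun z => val_injective _ ((val_verAway hdeg hgh' z).trans (val_verAway hdeg hgh z).symm)]
      rfl
    rw [← Proj.pullbackAwayιIso_hom_SpecMap_awayMap_left 𝒜 (ver_mem hdeg hg) (Nat.mul_pos hn hd)
      (ver_mem hdeg hh) (Nat.mul_pos hm hd) hx, ← Proj.pullbackAwayιIso_hom_SpecMap_awayMap_right 𝒜
      (ver_mem hdeg hg) (Nat.mul_pos hn hd) (ver_mem hdeg hh) (Nat.mul_pos hm hd) hx,
      Category.assoc, Category.assoc]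
    exact congrArg (I.hom ≫ ·) (e1.trans e2.symm)
  exact ⟨(verCover hdeg hd).glueMorphisms γ key,
    fun n g hn hg => Scheme.Cover.ι_glueMorphisms (verCover hdeg hd) γ key ⟨(n, g), hn, hg⟩⟩

variable {r : Proj 𝒜 ⟶ Proj ℬ}
  (hr : ∀ (n : ℕ) (g : B) (hn : 0 < n) (hg : g ∈ ℬ n),
    Proj.awayι 𝒜 (φ g) (ver_mem hdeg hg) (Nat.mul_pos hn hd) ≫ r =
      Spec.map (CommRingCat.ofHom (verAway hdeg hg)) ≫ Proj.awayι ℬ g hg hn)

include hd hr in
theorem verMap_preimage {n : ℕ} {g : B} (hn : 0 < n) (hg : g ∈ ℬ n) :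
    r ⁻¹ᵁ Proj.basicOpen ℬ g = Proj.basicOpen 𝒜 (φ g) := by
  refine TopologicalSpace.Opens.ext (Set.ext fun x => ?_)
  obtain ⟨m, h, hm, hh, hx⟩ := exists_ver_notMem hdeg x
  have hx' : x ∈ (Proj.awayι 𝒜 (φ h) (ver_mem hdeg hh) (Nat.mul_pos hm hd)).opensRange := by
    rw [Proj.opensRange_awayι]; exact hx
  obtain ⟨y, rfl⟩ := hx'
  show y ∈ Proj.awayι 𝒜 (φ h) (ver_mem hdeg hh) (Nat.mul_pos hm hd) ⁻¹ᵁ r ⁻¹ᵁ Proj.basicOpen ℬ g ↔
    y ∈ Proj.awayι 𝒜 (φ h) (ver_mem hdeg hh) (Nat.mul_pos hm hd) ⁻¹ᵁ Proj.basicOpen 𝒜 (φ g)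
  rw [← Scheme.Hom.comp_preimage, hr m h hm hh, Scheme.Hom.comp_preimage,
    Proj.awayι_preimage_basicOpen ℬ hh hm hg hn]
  refine Iff.trans ?_ (SetLike.ext_iff.1 (Proj.awayι_preimage_basicOpen 𝒜 (ver_mem hdeg hh)
    (Nat.mul_pos hm hd) (ver_mem hdeg hg) (Nat.mul_pos hn hd)) y).symm
  show Away.isLocalizationElem hh hg ∉ Ideal.comap (verAway hdeg hh) y.asIdeal ↔
    Away.isLocalizationElem (ver_mem hdeg hh) (ver_mem hdeg hg) ∉ y.asIdeal
  have hval : verAway hdeg hh (Away.isLocalizationElem hh hg) ^ d =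
      Away.isLocalizationElem (ver_mem hdeg hh) (ver_mem hdeg hg) := by
    refine val_injective _ ?_
    simp only [Away.isLocalizationElem, val_pow, val_verAway, Away.val_mk, Localization.mk_eq_mk',
      Localization.awayMap, IsLocalization.Away.map, IsLocalization.map_mk']
    erw [← IsLocalization.mk'_pow]
    congr 1
    · rw [AlgHom.toRingHom_eq_coe, RingHom.coe_coe, map_pow, ← pow_mul]
    · exact Subtype.ext (by simp [← pow_mul])
  rw [Ideal.mem_comap, not_iff_not, ← hval]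
  exact (y.isPrime.pow_mem_iff_mem d hd).symm

include hd hr in
theorem isIso_verMap (hφ : Function.Injective φ) : IsIso r := by
  show MorphismProperty.isomorphisms Scheme.{u} r
  refine (IsZariskiLocalAtTarget.iff_of_openCover (P := MorphismProperty.isomorphisms Scheme.{u})
    (Proj.affineOpenCover ℬ).openCover).2 fun s => ?_
  have H' : r ⁻¹ᵁ (Proj.awayι ℬ (s.2 : B) s.2.2 s.1.2).opensRange =
      (Proj.awayι 𝒜 (φ (s.2 : B)) (ver_mem hdeg s.2.2) (Nat.mul_pos s.1.2 hd)).opensRange := by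
    rw [Proj.opensRange_awayι, Proj.opensRange_awayι]
    exact verMap_preimage hdeg hd hr s.1.2 s.2.2
  have h : IsPullback (Proj.awayι 𝒜 (φ (s.2 : B)) (ver_mem hdeg s.2.2) (Nat.mul_pos s.1.2 hd))
      (Spec.map (CommRingCat.ofHom (verAway hdeg s.2.2))) r (Proj.awayι ℬ (s.2 : B) s.2.2 s.1.2) :=
    (IsOpenImmersion.isPullback _ _ _ r (hr _ _ s.1.2 s.2.2) H').flip
  have : IsIso (CommRingCat.ofHom (verAway hdeg (s.2.2 : (s.2 : B) ∈ ℬ s.1))) :=
    (ConcreteCategory.isIso_iff_bijective _).2 (verAway_bijective hdeg hφ s.2.2)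
  show IsIso (pullback.snd r (Proj.awayι ℬ (s.2 : B) s.2.2 s.1.2))
  rw [← h.isoPullback_inv_snd]
  infer_instance

include hd hr in
theorem verMap_apply (p : Proj 𝒜) :
    (r p).asHomogeneousIdeal.toIdeal = Ideal.comap φ p.asHomogeneousIdeal.toIdeal := by
  classical
  obtain ⟨e, t, he, ht, htp⟩ := exists_ver_notMem hdeg p
  have hpos : ∀ (n : ℕ) (g : B), 0 < n → g ∈ ℬ n →
      (g ∈ (r p).asHomogeneousIdeal ↔ φ g ∈ p.asHomogeneousIdeal) := fun n g hn hg =>
    not_iff_not.1 (SetLike.ext_iff.1 (verMap_preimage hdeg hd hr hn hg) p)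
  have hall : ∀ (n : ℕ) (g : B), g ∈ ℬ n →
      (g ∈ (r p).asHomogeneousIdeal ↔ φ g ∈ p.asHomogeneousIdeal) := by
    intro n g hg
    have := hpos _ _ (Nat.add_pos_right n he) (SetLike.mul_mem_graded hg ht)
    have htq : t ∉ (r p).asHomogeneousIdeal := fun h => htp ((hpos e t he ht).1 h)
    constructor
    · intro h
      have h' : φ g * φ t ∈ p.asHomogeneousIdeal := map_mul φ g t ▸ this.1 (Ideal.mul_mem_right t _ h)
      exact (p.isPrime.mem_or_mem h').resolve_right htp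
    · intro h
      have h' : φ (g * t) ∈ p.asHomogeneousIdeal := by rw [map_mul]; exact Ideal.mul_mem_right (φ t) _ h
      exact ((r p).isPrime.mem_or_mem (this.2 h')).resolve_right htq
  ext b
  rw [Ideal.mem_comap]
  constructor
  · intro hb
    rw [← DirectSum.sum_support_decompose ℬ b, map_sum]
    exact Ideal.sum_mem _ fun i _ => (hall i _ (SetLike.coe_mem _)).1
      ((r p).asHomogeneousIdeal.isHomogeneous i hb)
  · intro hb
    rw [← DirectSum.sum_support_decompose ℬ b]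
    refine Ideal.sum_mem _ fun i _ => (hall i _ (SetLike.coe_mem _)).2 ?_
    have h := p.asHomogeneousIdeal.isHomogeneous (i * d) hb
    have hcomp : (DirectSum.decompose 𝒜 (φ b) (i * d) : A) = φ (DirectSum.decompose ℬ b i : B) := by
      conv_lhs => rw [← DirectSum.sum_support_decompose ℬ b]
      rw [map_sum, DirectSum.decompose_sum, DFinsupp.finset_sum_apply, AddSubmonoidClass.coe_finsetSum,
        Finset.sum_eq_single i]
      · rw [DirectSum.decompose_of_mem_same 𝒜 (ver_mem hdeg (SetLike.coe_mem _))]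
      · intro j _ hji
        rw [DirectSum.decompose_of_mem_ne 𝒜 (ver_mem hdeg (SetLike.coe_mem _))
          fun h => hji (Nat.eq_of_mul_eq_mul_right hd h)]
      · intro hi
        rw [DFinsupp.notMem_support_iff.1 hi]
        simp
    exact hcomp ▸ h

end Groth.Agent.ProjSpec
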